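import Groth.Agent.H3.CubeRel
import Groth.Agent.H63.AVSymmetric

/-!
# The biextension class of a symmetric class on an abelian variety

* `B`: the bilinear class attached to a class
* `mul_left`, `pow_left`, `self`: bilinearity and the diagonal
* `exists_symm`: a symmetric ample class
-/

set_option autoImplicit false
set_option linter.style.haveILetI false

universe u

open CategoryTheory CategoryTheory.Limits MonoidalCategory CartesianMonoidalCategory AlgebraicGeometry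
open scoped MonObj GrpObj
open Groth.Agent.H3 Groth.Agent.Lib

noncomputable section

namespace Groth.Agent.H63.Tate.Bilinear

local instance (Y : Scheme.{u}) : PicGrp.Law Y := Groth.Agent.Lib.TensorMod.Invertible.law Y

variable {k : Type u} [Field k] {Q : Over (Spec (CommRingCat.of k))} [GrpObj Q]

/-- The class `(x + y)^*ℓ - x^*ℓ - y^*ℓ`. -/
def B (ℓ : PicLoc.PicSet Q.left) {T : Over (Spec (CommRingCat.of k))} (x y : T ⟶ Q) : PicLoc.PicSet T.left :=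
  PicCalc.ph (x * y) ℓ * (PicCalc.ph x ℓ * PicCalc.ph y ℓ)⁻¹

variable (ℓ : PicLoc.PicSet Q.left) {T T' : Over (Spec (CommRingCat.of k))}

theorem natural (s : T' ⟶ T) (x y : T ⟶ Q) : PicCalc.ph s (B ℓ x y) = B ℓ (s ≫ x) (s ≫ y) := by
  simp only [B, map_mul, map_inv, ← PicCalc.ph_comp, MonObj.comp_mul]

theorem one_left (y : T ⟶ Q) : B ℓ 1 y = 1 := by
  simp only [B, _root_.one_mul, CubeRel.ph_one, mul_inv_cancel]

theorem comm [IsCommMonObj Q] (x y : T ⟶ Q) : B ℓ x y = B ℓ y x := by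
  simp only [B, mul_comm x y, mul_comm (PicCalc.ph x ℓ)]

variable [IsProper Q.hom] [GeometricallyIntegral Q.hom]

theorem mul_left (x x' y : T ⟶ Q) : B ℓ (x * x') y = B ℓ x y * B ℓ x' y := by
  have h := CubeRel.cube_rel x x' y ℓ
  simp only [B]
  set a := PicCalc.ph (x * x' * y) ℓ
  set b := PicCalc.ph x ℓ
  set c := PicCalc.ph x' ℓ
  set d := PicCalc.ph y ℓ
  set e := PicCalc.ph (x * x') ℓ
  set f := PicCalc.ph (x * y) ℓ
  set g := PicCalc.ph (x' * y) ℓ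
  rw [← div_eq_mul_inv, ← div_eq_mul_inv, ← div_eq_mul_inv, div_mul_div_comm, div_eq_div_iff_mul_eq_mul]
  calc a * (b * d * (c * d)) = a * b * c * d * d := by ac_rfl
    _ = e * f * g * d := by rw [h]
    _ = f * g * (e * d) := by ac_rfl

theorem pow_left (x y : T ⟶ Q) (m : ℕ) : B ℓ (x ^ m) y = B ℓ x y ^ m := by
  induction m with
  | zero => rw [pow_zero, pow_zero, one_left]
  | succ m ih => rw [pow_succ, pow_succ, mul_left, ih]

theorem inv_left (x y : T ⟶ Q) : B ℓ x⁻¹ y = (B ℓ x y)⁻¹ :=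
  eq_inv_of_mul_eq_one_left (by rw [← mul_left, inv_mul_cancel, one_left])

variable {ℓ}

theorem ph_inv (hs : PicCalc.ph ((𝟙 Q : Q ⟶ Q)⁻¹) ℓ = ℓ) (x : T ⟶ Q) : PicCalc.ph x⁻¹ ℓ = PicCalc.ph x ℓ := by
  conv_lhs => rw [show x⁻¹ = x ≫ (𝟙 Q : Q ⟶ Q)⁻¹ by rw [GrpObj.comp_inv, Category.comp_id]]
  rw [PicCalc.ph_comp, hs]

theorem self (hs : PicCalc.ph ((𝟙 Q : Q ⟶ Q)⁻¹) ℓ = ℓ) (x : T ⟶ Q) : B ℓ x x = PicCalc.ph x ℓ ^ 2 := by
  have h := CubeRel.cube_rel x x x⁻¹ ℓ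
  rw [mul_inv_cancel_right, mul_inv_cancel, CubeRel.ph_one, ph_inv hs, _root_.mul_one, _root_.mul_one] at h
  rw [B, ← h, mul_inv_eq_iff_eq_mul, pow_two, mul_assoc]

variable (Q) in
/-- A symmetric ample class. -/
theorem exists_symm : ∃ (L : Q.left.Modules) (hL : PicF.IsInvertible L),
    CohB1.IsAmple L ∧ PicCalc.ph ((𝟙 Q : Q ⟶ Q)⁻¹) (PicGrp.cls L hL) = PicGrp.cls L hL := by
  obtain ⟨L₀, hL₀⟩ := AVProjective.exists_isAmple Q
  let v : Q ⟶ Q := (𝟙 Q)⁻¹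
  haveI : IsIso v.left := ⟨v.left, by rw [← Over.comp_left, AVSymmetric.inv_comp_inv]; rfl,
    by rw [← Over.comp_left, AVSymmetric.inv_comp_inv]; rfl⟩
  let L₁ := (Scheme.Modules.pullback v.left).obj L₀
  have hL₁ : CohB1.IsAmple L₁ :=
    Ample.Pullback.isAmple_pullback v.left (Ample.Pullback.isQuasiAffine_of_isAffineHom v.left) hL₀
  have hL : CohB1.IsAmple (CohB1.tensorMod L₀ L₁) := Ample.Basis.isAmple_tensor hL₀ hL₁.1 fun x => by
    obtain ⟨n, hn, s, hs, -⟩ := (Ample.Pow.isAmple_iff.1 hL₁).2.2 x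
    exact ⟨n, hn, s, hs⟩
  have hcl : PicGrp.cls _ hL.1 = PicGrp.cls L₀ hL₀.1 * PicCalc.ph v (PicGrp.cls L₀ hL₀.1) :=
    Subtype.ext (PicCalc.cl_tensor rfl (PicCalc.cl_pullback v (a := PicGrp.cls L₀ hL₀.1) rfl))
  refine ⟨_, hL.1, hL, ?_⟩
  rw [hcl, map_mul, ← PicCalc.ph_comp, AVSymmetric.inv_comp_inv, PicCalc.ph_id, mul_comm]

end Groth.Agent.H63.Tate.Bilinear
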