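import Groth.Agent.S11992
import Groth.Agent.H63.AVProjective
import Mathlib.AlgebraicGeometry.Morphisms.Separated
import Mathlib.AlgebraicGeometry.Group.Smooth

/-!
# Abelian varieties with isomorphic dense opens are isomorphic

* `nonempty_iso`
-/

set_option autoImplicit false

universe u

open CategoryTheory CategoryTheory.Limits MonoidalCategory CartesianMonoidalCategory MonObj AlgebraicGeometry

namespace Groth.Agent.H63.Tate.Birat

variable {k : Type u} [Field k]

theorem smooth (A : Over (Spec (CommRingCat.of k))) [GrpObj A] [IsProper A.hom] [GeometricallyIntegral A.hom] :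
    Smooth A.hom := by
  haveI : IsIntegral A.left := GeometricallyIntegral.isIntegral_of_subsingleton A.hom
  letI : GrpObj (Over.mk A.hom) := (show GrpObj A from inferInstance)
  exact smooth_of_grpObj A.hom

theorem nonempty_iso {Y Y' : Over (Spec (CommRingCat.of k))} [GrpObj Y] [GrpObj Y'] [IsProper Y.hom] [IsProper Y'.hom]
    [GeometricallyIntegral Y.hom] [GeometricallyIntegral Y'.hom] (U : Y.left.Opens) (U' : Y'.left.Opens)
    (hU : (U : Set Y.left).Nonempty) (hU' : (U' : Set Y'.left).Nonempty) (e : (U : Scheme.{u}) ≅ U')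
    (he : e.hom ≫ U'.ι ≫ Y'.hom = U.ι ≫ Y.hom) : Nonempty (Y ≅ Y') := by
  haveI := smooth Y; haveI := smooth Y'
  haveI : IsIntegral Y.left := GeometricallyIntegral.isIntegral_of_subsingleton Y.hom
  haveI : IsIntegral Y'.left := GeometricallyIntegral.isIntegral_of_subsingleton Y'.hom
  have he' : e.inv ≫ U.ι ≫ Y.hom = U'.ι ≫ Y'.hom := by rw [← he, e.inv_hom_id_assoc]
  obtain ⟨g, hg, hgU⟩ := S11992.result k Y.left Y.hom Y' U hU (e.hom ≫ U'.ι) (by rw [Category.assoc, he])
  obtain ⟨g', hg', hgU'⟩ := S11992.result k Y'.left Y'.hom Y U' hU' (e.inv ≫ U.ι) (by rw [Category.assoc, he'])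
  haveI : IsDominant U.ι := ⟨by
    show DenseRange U.ι
    rw [DenseRange, Scheme.Opens.range_ι]
    exact U.2.dense hU⟩
  haveI : IsDominant U'.ι := ⟨by
    show DenseRange U'.ι
    rw [DenseRange, Scheme.Opens.range_ι]
    exact U'.2.dense hU'⟩
  refine ⟨Over.isoMk ⟨g, g', ?_, ?_⟩ hg⟩
  · refine ext_of_isDominant_of_isSeparated Y.hom (by rw [Category.assoc, hg', hg, Category.id_comp]) U.ι ?_
    rw [reassoc_of% hgU, hgU', Category.comp_id, e.hom_inv_id_assoc]
  · refine ext_of_isDominant_of_isSeparated Y'.hom (by rw [Category.assoc, hg, hg', Category.id_comp]) U'.ι ?_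
    rw [reassoc_of% hgU', hgU, Category.comp_id, e.inv_hom_id_assoc]

end Groth.Agent.H63.Tate.Birat
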