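import Groth.Agent.H52.IsogenyDegree
import Groth.Agent.Lib.ProjMor.QP
import Groth.Agent.H52.NondegAmple
import Groth.Agent.H63.AmpleCompl
import Groth.Agent.H4.Chow.Hom
import Mathlib.LinearAlgebra.FreeModule.Finite.Matrix

/-!
# Euler characteristics along a quotient map, and the external product of an ample module

* `exists_degree_le`: the degree is at least the number of kernel points
* `exists_box`: the external square of an ample class is ample
-/

set_option autoImplicit false
set_option linter.style.haveILetI false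
set_option synthInstance.maxHeartbeats 200000

universe u

open CategoryTheory CategoryTheory.Limits MonoidalCategory CartesianMonoidalCategory AlgebraicGeometry
open scoped MonObj GrpObj
open Groth.Agent.H3 Groth.Agent.Lib

noncomputable section

namespace Groth.Agent.H63.Tate.Box

local instance (Y : Scheme.{u}) : PicGrp.Law Y := Groth.Agent.Lib.TensorMod.Invertible.law Y

variable {k : Type u} [Field k]

local notation "S" => Spec (CommRingCat.of k)

open H52.IsogenyDegree in
theorem euler_pullback_kernel {A B : Over (Spec (CommRingCat.of k))} [GrpObj A] [GrpObj B] [IsProper A.hom]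
    [IsProper B.hom] (f : A ⟶ B) [IsMonHom f] [IsFinite f.left] [Flat f.left] [Surjective f.left]
    (F : B.left.Modules) (hF : Coh.IsCoh F) :
    @Curv2.euler k _ A.left ⟨A.hom⟩ ((Scheme.Modules.pullback f.left).obj F) =
      gammaDeg (pullback f η[B]) * @Curv2.euler k _ B.left ⟨B.hom⟩ F := by
  letI : A.left.Over S := ⟨A.hom⟩
  letI : B.left.Over S := ⟨B.hom⟩
  haveI : IsProper (A.left ↘ S) := ‹IsProper A.hom›
  haveI : IsProper (B.left ↘ S) := ‹IsProper B.hom›
  haveI := Curves.GlobalSections.isNoetherian_of_proper k A.left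
  haveI := Curves.GlobalSections.isNoetherian_of_proper k B.left
  let K : Over S := pullback f η[B]
  let ι₁ : K ⟶ A := pullback.fst f η[B]
  have hι : ι₁ ≫ f = toUnit K ≫ η[B] := by
    rw [show toUnit K = pullback.snd f η[B] from toUnit_unique _ _]
    exact pullback.condition
  haveI : IsFinite K.hom := by
    have h := (IsPullback.of_hasPullback f η[B]).map (Over.forget S)
    haveI : IsFinite (pullback.snd f η[B]).left := MorphismProperty.of_isPullback (P := @IsFinite) h ‹_›
    have e : K.hom = (pullback.snd f η[B]).left ≫ 𝟙 _ := (Over.w (pullback.snd f η[B])).symm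
    rw [e]
    infer_instance
  refine H52.IsogenyEuler.euler_pullback (k := k) f.left (Over.w f) _ (fun G hG => ?_) F hF
  -- the fibre square
  let p₁ : A ⊗ K ⟶ A := fst A K * (snd A K ≫ ι₁)
  have sq : IsPullback (fst A K) p₁ f f := by
    refine ⟨⟨?_⟩, ⟨PullbackCone.isLimitAux' _ fun s => ?_⟩⟩
    · simp [p₁, MonObj.mul_comp, hι, Hom.one_def]
    have hs : (s.fst⁻¹ * s.snd) ≫ f = toUnit s.pt ≫ η[B] := by
      rw [MonObj.mul_comp, GrpObj.inv_comp, s.condition, inv_mul_cancel, Hom.one_def]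
    refine ⟨lift s.fst (pullback.lift (s.fst⁻¹ * s.snd) (toUnit _) hs), ?_, ?_, fun {m} h1 h2 => ?_⟩
    · exact lift_fst _ _
    · show lift s.fst _ ≫ (fst A K * (snd A K ≫ ι₁)) = s.snd
      rw [MonObj.comp_mul, lift_fst, lift_snd_assoc, pullback.lift_fst, mul_inv_cancel_left]
    · let m' : s.pt ⟶ A ⊗ K := m
      have h1' : m' ≫ fst A K = s.fst := h1
      have h2' : m' ≫ p₁ = s.snd := h2
      show m' = lift s.fst (pullback.lift (s.fst⁻¹ * s.snd) (toUnit _) hs)
      refine CartesianMonoidalCategory.hom_ext _ _ ?_ ?_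
      · rw [lift_fst, h1']
      · rw [lift_snd]
        refine pullback.hom_ext ?_ (toUnit_unique _ _)
        rw [pullback.lift_fst]
        simp only [p₁, MonObj.comp_mul, h1'] at h2'
        rw [← h2', inv_mul_cancel_left, Category.assoc]
  have sq' : IsPullback (fst A K).left p₁.left f.left f.left := sq.map (Over.forget S)
  haveI : IsFinite p₁.left := MorphismProperty.of_isPullback (P := @IsFinite) sq' ‹IsFinite f.left›
  haveI := hG.1
  haveI : Coh.IsQCoh G := hG.1
  obtain ⟨e⟩ := Groth.Agent.S0033.result f.left f.left (fst A K).left p₁.left sq' G 0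
  let e' : (Scheme.Modules.pullback f.left).obj ((Coh.push f.left).obj G) ≅
      (Coh.push p₁.left).obj ((Scheme.Modules.pullback (fst A K).left).obj G) :=
    (Scheme.Modules.pullback f.left).mapIso
        (((Scheme.Modules.pushforward f.left).rightDerivedZeroIsoSelf).app G).symm ≪≫ e ≪≫
      ((Scheme.Modules.pushforward p₁.left).rightDerivedZeroIsoSelf).app _
  letI : (A ⊗ K).left.Over S := ⟨(A ⊗ K).hom⟩
  haveI : ((Scheme.Modules.pullback (fst A K).left).obj G).IsQuasicoherent :=
    QCoh.Pullback.isQCoh_pullback _ G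
  rw [(H52.IsogenyEuler.isAdd_euler (k := k)).iso e', SurfInt.Push.euler_push (k := k) p₁.left (Over.w p₁)]
  exact euler_fst G hG

open H52.IsogenyDegree in
/-- Kernel points are at most the degree. -/
theorem natCard_le_gammaDeg (Ω : Type u) [Field Ω] [Algebra k Ω] (K : Over (Spec (CommRingCat.of k))) [IsFinite K.hom] :
    Finite (SGA7.pt (K := k) Ω ⟶ K) ∧ Nat.card (SGA7.pt (K := k) Ω ⟶ K) ≤ gammaDeg K := by
  haveI : IsAffine K.left := isAffine_of_isAffineHom K.hom
  have hfin : (toΓ K).Finite :=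
    RingHom.Finite.comp ((IsFinite.finite_app K.hom ⊤ (isAffineOpen_top _)))
      (RingHom.Finite.of_surjective _ (Scheme.ΓSpecIso (CommRingCat.of k)).symm.commRingCatIsoToRingEquiv.surjective)
  letI : Algebra k Γ(K.left, ⊤) := (toΓ K).toAlgebra
  haveI : Module.Finite k Γ(K.left, ⊤) := hfin
  let ev : (SGA7.pt (K := k) Ω ⟶ K) → (Γ(K.left, ⊤) →ₐ[k] Ω) := fun a =>
    { toRingHom := (a.left.appTop ≫ (Scheme.ΓSpecIso (CommRingCat.of Ω)).hom).hom
      commutes' := fun r => by
        have h : ((Scheme.ΓSpecIso (CommRingCat.of k)).inv ≫ K.hom.appTop) ≫ a.left.appTop ≫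
            (Scheme.ΓSpecIso (CommRingCat.of Ω)).hom = CommRingCat.ofHom (algebraMap k Ω) := by
          have hw : a.left ≫ K.hom = Spec.map (CommRingCat.ofHom (algebraMap k Ω)) := Over.w a
          rw [Category.assoc, ← Category.assoc K.hom.appTop, ← Scheme.Hom.comp_appTop, hw,
            Scheme.ΓSpecIso_naturality, Iso.inv_hom_id_assoc]
        exact CategoryTheory.congr_fun h r }
  have hinj : Function.Injective ev := fun a b e => by
    refine Over.OverMorphism.ext (ext_of_isAffine ?_)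
    refine (cancel_mono (Scheme.ΓSpecIso (CommRingCat.of Ω)).hom).1 ?_
    ext x
    exact DFunLike.congr_fun e x
  exact ⟨Finite.of_injective ev hinj, (Nat.card_le_card_of_injective ev hinj).trans (card_algHom_le_finrank k _ Ω)⟩

variable (Q : Over (Spec (CommRingCat.of k))) [GrpObj Q] [IsProper Q.hom] [GeometricallyIntegral Q.hom]

/-- The external square of an ample class. -/
theorem exists_box {L : Q.left.Modules} (hA : CohB1.IsAmple L) :
    ∃ (L₂ : (Q ⊗ Q).left.Modules) (h₂ : PicF.IsInvertible L₂), CohB1.IsAmple L₂ ∧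
      PicGrp.cls L₂ h₂ = PicCalc.ph (fst Q Q) (PicGrp.cls L hA.1) * PicCalc.ph (snd Q Q) (PicGrp.cls L hA.1) := by
  haveI := H4.Chow.isProper_prod Q Q
  haveI : CompactSpace Q.left := QuasiCompact.compactSpace_of_compactSpace Q.hom
  let f := (fst Q Q).left
  let g := (snd Q Q).left
  have hLr : _root_.RelAmple.IsRelAmple Q.hom L := (Ample.RelAmple.isRelAmple_iff_isAmple Q.hom).2 hA
  have h1 : _root_.RelAmple.IsRelAmple g ((Scheme.Modules.pullback f).obj L) :=
    Ample.RelAmple.isRelAmple_baseChange Q.hom Q.hom hLr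
  obtain ⟨n₀, hn0, hn⟩ := ProjMor.QP.eventually_isRelAmple_comp g Q.hom h1 hLr
  have hgQ : g ≫ Q.hom = (Q ⊗ Q).hom := Over.w (snd Q Q)
  have hP := hn (n₀ + 1) (by omega)
  rw [hgQ] at hP
  have hPa := (Ample.RelAmple.isRelAmple_iff_isAmple (Q ⊗ Q).hom).1 hP
  have hfL := PicLoc.isInvertible_pullback f hA.1
  have hgen : ∀ x : (Q ⊗ Q).left, ∃ n : ℕ, 0 < n ∧ ∃ s : Coh.structureModule (Q ⊗ Q).left ⟶
      CohB1.tensorPow (CohB1.tensorPow ((Scheme.Modules.pullback f).obj L) n₀) n, x ∈ CohB1.genLocus _ s := by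
    intro x
    have hA' := (Ample.Pow.isAmple_tensorPow_iff hA.1 (n := n₀) hn0).1 hA
    obtain ⟨n, hn, s, hs, -⟩ := (Ample.Pow.isAmple_iff.1 hA').2.2 (f x)
    let e := Ample.Pow.pullbackPow f (CohB1.tensorPow L n₀) n ≪≫
      Ample.Pow.powIso (Ample.Pow.pullbackPow f L n₀) n
    refine ⟨n, hn, H52.NondegAmple.pullSec f s ≫ e.hom, ?_⟩
    rw [Ample.GenLocus.genLocus_comp_iso,
      H52.NondegAmple.genLocus_pullSec f (TensorMod.Invertible.isInvertible_tensorPow hA'.1 n)]
    exact hs
  have hQ := Ample.Basis.isAmple_tensor hPa (TensorMod.Invertible.isInvertible_tensorPow hfL _) hgen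
  have hgL := PicLoc.isInvertible_pullback g hA.1
  let L₂ := CohB1.tensorMod ((Scheme.Modules.pullback f).obj L) ((Scheme.Modules.pullback g).obj L)
  have h₂ : PicF.IsInvertible L₂ := TensorMod.Invertible.isInvertible_tensorMod hfL hgL
  have hc2 : PicF.cl L₂ = (PicCalc.ph (fst Q Q) (PicGrp.cls L hA.1) * PicCalc.ph (snd Q Q) (PicGrp.cls L hA.1)).1 :=
    PicCalc.cl_tensor (PicCalc.cl_pullback (fst Q Q) (a := PicGrp.cls L hA.1) rfl)
      (PicCalc.cl_pullback (snd Q Q) (a := PicGrp.cls L hA.1) rfl)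
  refine ⟨L₂, h₂, ?_, Subtype.ext hc2⟩
  refine (Ample.Pow.isAmple_tensorPow_iff h₂ (n := n₀ + 1) (by omega)).2 ?_
  refine Ample.Pow.isAmple_of_iso ((PicCalc.iso_iff
      (a := PicCalc.ph (fst Q Q) (PicGrp.cls L hA.1) * PicCalc.ph (snd Q Q) (PicGrp.cls L hA.1 ^ (n₀ + 1)) *
        PicCalc.ph (fst Q Q) (PicGrp.cls L hA.1) ^ n₀) ?_
      (AmpleCompl.cl_tensorPow (a := PicGrp.cls L₂ h₂) rfl _)).2 ?_).some hQ
  · exact PicCalc.cl_tensor
      (PicCalc.cl_tensor (PicCalc.cl_pullback (fst Q Q) (a := PicGrp.cls L hA.1) rfl)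
        (PicCalc.cl_pullback (snd Q Q) (a := PicGrp.cls L hA.1 ^ (n₀ + 1)) (AmpleCompl.cl_tensorPow rfl _)))
      (AmpleCompl.cl_tensorPow (a := PicCalc.ph (fst Q Q) (PicGrp.cls L hA.1))
        (PicCalc.cl_pullback (fst Q Q) (a := PicGrp.cls L hA.1) rfl) n₀)
  · rw [show PicGrp.cls L₂ h₂ = PicCalc.ph (fst Q Q) (PicGrp.cls L hA.1) * PicCalc.ph (snd Q Q) (PicGrp.cls L hA.1)
      from Subtype.ext hc2, mul_pow, map_pow, pow_succ (PicCalc.ph (fst Q Q) _)]
    exact (mul_right_comm _ _ _).trans (congrArg (· * _) (_root_.mul_comm _ _))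

end Groth.Agent.H63.Tate.Box
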