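import Groth.Agent.Lib.Dim.Basic
import Mathlib.RingTheory.MvPolynomial.Basic
import Mathlib.RingTheory.Ideal.MinimalPrime.Noetherian
import Mathlib.Algebra.MvPolynomial.Rename
import Mathlib.FieldTheory.Finite.Basic

/-!
# Finitely many algebras with bounded growth over a finite field

* `finite_models`: primes of a polynomial ring over a finite field with quotient of given dimension and
  polynomially bounded growth form a finite set
-/

set_option autoImplicit false

universe u

open MvPolynomial

namespace Groth.Agent.H63.Tate.Models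

open Groth.Agent.Lib.Dim.Basic

variable {k : Type u} [Field k] {n : ℕ}

/-- Bounded growth. -/
def Bounded (G C : ℕ) (P : Ideal (MvPolynomial (Fin n) k)) : Prop :=
  ∀ j : ℕ, Module.finrank k ((restrictTotalDegree (Fin n) k j).map (Ideal.Quotient.mkₐ k P).toLinearMap) ≤ C * (j + 1) ^ G

theorem degree_exp_le {G e : ℕ} (f : Fin (G + 1) → Fin (e + 1)) (a : k) :
    (monomial (Finsupp.equivFunOnFinite.symm fun i => (f i : ℕ)) a).totalDegree ≤ (G + 1) * e := by
  refine (MvPolynomial.totalDegree_monomial_le _ _).trans ?_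
  rw [Finsupp.sum_fintype _ _ (fun _ => rfl)]
  refine (Finset.sum_le_sum (g := fun _ => e) fun i _ => Nat.lt_succ_iff.1 (f i).isLt).trans ?_
  simp

/-- Any `G + 1` coordinates satisfy a relation of bounded degree. -/
theorem exists_relation {G C : ℕ} (P : Ideal (MvPolynomial (Fin n) k)) (hb : Bounded G C P)
    (σ : Fin (G + 1) → Fin n) :
    ∃ R : MvPolynomial (Fin (G + 1)) k, R ≠ 0 ∧ rename σ R ∈ P ∧
      (rename σ R).totalDegree ≤ (G + 1) * (C * (G + 1) ^ G) := by
  classical
  set e := C * (G + 1) ^ G with he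
  let ex : (Fin (G + 1) → Fin (e + 1)) → (Fin (G + 1) →₀ ℕ) := fun f => Finsupp.equivFunOnFinite.symm fun i => (f i : ℕ)
  have hex : Function.Injective ex := fun f g h => funext fun i => Fin.ext (congrFun (congrArg (⇑) h) i)
  let V := (restrictTotalDegree (Fin n) k ((G + 1) * e)).map (Ideal.Quotient.mkₐ k P).toLinearMap
  let v : (Fin (G + 1) → Fin (e + 1)) → V := fun f =>
    ⟨Ideal.Quotient.mkₐ k P (rename σ (monomial (ex f) 1)), Submodule.mem_map_of_mem (by
      rw [mem_restrictTotalDegree]
      exact (totalDegree_rename_le _ _).trans (degree_exp_le f 1))⟩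
  haveI : Module.Finite k (restrictTotalDegree (Fin n) k ((G + 1) * e)) := inferInstance
  have hli : ¬ LinearIndependent k v := fun h => by
    have h1 := h.fintype_card_le_finrank
    rw [Fintype.card_fun, Fintype.card_fin, Fintype.card_fin] at h1
    have h2 := h1.trans (hb ((G + 1) * e))
    have h3 : C * ((G + 1) * e + 1) ^ G ≤ e * (e + 1) ^ G := by
      calc C * ((G + 1) * e + 1) ^ G ≤ C * ((G + 1) * (e + 1)) ^ G := by
            refine Nat.mul_le_mul_left _ (Nat.pow_le_pow_left ?_ _)
            rw [Nat.mul_add]; omega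
        _ = e * (e + 1) ^ G := by rw [mul_pow, ← mul_assoc, he]
    have h4 : e * (e + 1) ^ G < (e + 1) ^ (G + 1) := by
      rw [pow_succ']
      exact Nat.mul_lt_mul_of_pos_right (Nat.lt_succ_self e) (pow_pos e.succ_pos _)
    omega
  obtain ⟨c, hc, i, hi⟩ := Fintype.not_linearIndependent_iff.1 hli
  refine ⟨∑ f, monomial (ex f) (c f), fun h => hi ?_, ?_, ?_⟩
  · have := congrArg (coeff (ex i)) h
    rw [coeff_sum, coeff_zero, Finset.sum_eq_single i (fun f _ hf => by
      rw [coeff_monomial, if_neg fun e => hf (hex e)]) (by simp), coeff_monomial, if_pos rfl] at this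
    exact this
  · rw [← Ideal.Quotient.eq_zero_iff_mem, map_sum, map_sum]
    have h := congrArg Subtype.val hc
    rw [Submodule.coe_zero, AddSubmonoidClass.coe_finsetSum] at h
    refine (Finset.sum_congr rfl fun f _ => ?_).trans h
    show Ideal.Quotient.mkₐ k P (rename σ (monomial (ex f) (c f))) = c f • Ideal.Quotient.mkₐ k P (rename σ (monomial (ex f) 1))
    rw [← map_smul, ← map_smul, smul_monomial, smul_eq_mul, mul_one]
  · rw [map_sum]
    refine (totalDegree_finsetSum _ _).trans (Finset.sup_le fun f _ => ?_)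
    exact (totalDegree_rename_le _ _).trans (degree_exp_le f (c f))

/-- A prime with such relations has quotient of dimension at most `G`. -/
theorem dimQ_le {G : ℕ} (Q : Ideal (MvPolynomial (Fin n) k)) [Q.IsPrime]
    (h : ∀ σ : Fin (G + 1) → Fin n, ∃ R : MvPolynomial (Fin (G + 1)) k, R ≠ 0 ∧ rename σ R ∈ Q) :
    dimQ k Q ≤ G := by
  classical
  let x : Fin n → MvPolynomial (Fin n) k ⧸ Q := fun i => Ideal.Quotient.mkₐ k Q (X i)
  have htop : Algebra.adjoin k (Set.range x) = ⊤ := by
    rw [show Set.range x = Ideal.Quotient.mkₐ k Q '' Set.range X from (Set.range_comp _ _),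
      ← AlgHom.map_adjoin, adjoin_range_X, Algebra.map_top, AlgHom.range_eq_top]
    exact Ideal.Quotient.mkₐ_surjective k Q
  haveI : Algebra.IsAlgebraic (Algebra.adjoin k (Set.range x)) (MvPolynomial (Fin n) k ⧸ Q) := by
    rw [htop]
    exact ⟨fun a => isAlgebraic_algebraMap (R := (⊤ : Subalgebra k (MvPolynomial (Fin n) k ⧸ Q))) (⟨a, trivial⟩ : (⊤ : Subalgebra k (MvPolynomial (Fin n) k ⧸ Q)))⟩
  obtain ⟨t, ht, hbasis⟩ := exists_isTranscendenceBasis_subset (R := k) (Set.range x)
  have hc := hbasis.cardinalMk_eq_trdeg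
  rw [trdeg_quotient] at hc
  by_contra hlt
  push Not at hlt
  haveI : Finite t := ((Set.finite_range x).subset ht).to_subtype
  haveI := Fintype.ofFinite t
  rw [Cardinal.mk_fintype, Nat.cast_inj] at hc
  obtain ⟨f⟩ : Nonempty (Fin (G + 1) ↪ t) := Function.Embedding.nonempty_of_card_le (by rw [Fintype.card_fin, hc]; omega)
  choose σ hσ using fun i => ht (f i).2
  obtain ⟨R, hR, hRQ⟩ := h σ
  refine hR ((hbasis.1.comp f f.injective).eq_zero_of_aeval_eq_zero R ?_)
  rw [← Ideal.Quotient.eq_zero_iff_mem] at hRQ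
  refine Eq.trans ?_ hRQ
  rw [← Ideal.Quotient.mkₐ_eq_mk k, ← AlgHom.comp_apply, aeval_unique ((Ideal.Quotient.mkₐ k Q).comp (rename σ))]
  congr 2
  funext i
  simp only [Function.comp_apply, AlgHom.comp_apply, rename_X]
  exact (hσ i).symm

/-- Finitely many such primes. -/
theorem finite_models [Finite k] (G C : ℕ) :
    Set.Finite {P : Ideal (MvPolynomial (Fin n) k) | P.IsPrime ∧
      ringKrullDim (MvPolynomial (Fin n) k ⧸ P) = (G : WithBot ℕ∞) ∧ Bounded G C P} := by
  classical
  set j₀ := (G + 1) * (C * (G + 1) ^ G)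
  haveI : Module.Finite k (restrictTotalDegree (Fin n) k j₀) := inferInstance
  haveI : Finite (restrictTotalDegree (Fin n) k j₀) := Module.finite_of_finite k
  let gen : Set (restrictTotalDegree (Fin n) k j₀) → Set (Ideal (MvPolynomial (Fin n) k)) := fun s =>
    (Ideal.span (Subtype.val '' s)).minimalPrimes
  refine (Set.finite_iUnion fun s => show (gen s).Finite from Ideal.finite_minimalPrimes_of_isNoetherianRing _ _).subset ?_
  rintro P ⟨hP, hdim, hb⟩
  haveI := hP
  refine Set.mem_iUnion.2 ⟨{v | (v : MvPolynomial (Fin n) k) ∈ P}, ⟨hP, Ideal.span_le.2 ?_⟩, fun Q hQ hQP => ?_⟩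
  · rintro _ ⟨v, hv, rfl⟩; exact hv
  · haveI := hQ.1
    by_contra hne
    have hlt : Q < P := lt_of_le_not_ge hQP hne
    have h1 := dimQ_lt_of_lt k hlt
    rw [ringKrullDim_quotient_prime k P] at hdim
    have h2 : dimQ k P = G := by exact_mod_cast hdim
    have h3 := dimQ_le (G := G) Q fun σ => by
      obtain ⟨R, hR, hRP, hdeg⟩ := exists_relation P hb σ
      exact ⟨R, hR, hQ.2 (Ideal.subset_span ⟨⟨_, (mem_restrictTotalDegree _ _ _).2 hdeg⟩, hRP, rfl⟩)⟩
    omega

end Groth.Agent.H63.Tate.Models
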