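import Groth.Agent.H63.Tate.SecKoszul
import Groth.Agent.H63.Tate.Models
import Groth.Agent.Lib.Curves.NormalGen
import Groth.Agent.Lib.Curves.VeryAmple
import Groth.Agent.Lib.Snapper.Chi
import Groth.Agent.Lib.Snapper.Finite
import Groth.Agent.Lib.AffineCompl.Dim

/-!
# An affine chart with bounded equations

* `exists_powAdd`, `coord_mul`: multiplying sections of powers
* `exists_model`: a chart of a polarised variety is cut out by a prime with bounded growth
-/

set_option autoImplicit false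
set_option linter.style.haveILetI false

universe u

open CategoryTheory CategoryTheory.Limits AlgebraicGeometry TopologicalSpace Opposite

noncomputable section

namespace Groth.Agent.H63.Tate.Chart

open Groth.Agent.Lib Groth.Agent.Lib.Modules.TensorSec TensorMod.Basic TensorMod.Gen TensorMod.Free
  TensorMod.Dual TensorMod Ample.GenLocus Ample.Extend ProjMor.Sec Groth.Agent.Lib.ProjKoszul

variable {X : Scheme.{u}} {L : X.Modules}

theorem tmul_eq_tens {M N : X.Modules} {U : X.Opens} (a : Γ(M, U)) (b : Γ(N, U)) :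
    SecTwist.tmul M N U a b = tens a b := rfl

theorem inv_app_hom_app {M N : X.Modules} (e : M ≅ N) {U : X.Opens} (x : Γ(M, U)) : e.inv.app U (e.hom.app U x) = x := by
  change (e.hom ≫ e.inv).app U x = x
  rw [e.hom_inv_id]
  rfl

theorem comp_app_apply {M N P : X.Modules} (f : M ⟶ N) (g : N ⟶ P) {U : X.Opens} (x : Γ(M, U)) :
    (f ≫ g).app U x = g.app U (f.app U x) := rfl

/-- The product of the powers. -/
theorem exists_powAdd (r : ℕ) : ∀ s : ℕ, ∃ φ : CohB1.tensorMod (CohB1.tensorPow L r) (CohB1.tensorPow L s) ⟶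
    CohB1.tensorPow L (r + s), ∀ (U : X.Opens) (e : Γ(L, U)),
      φ.app U (tens (powSec e r) (powSec e s)) = powSec e (r + s)
  | 0 => ⟨(rightUnit _).hom, fun U e => (app_tens _ _ _).trans
      ((Surj.pairM_rightUnit_hom _ (powSec e r) (1 : Γ(X, U))).trans (one_smul _ _))⟩
  | s + 1 => by
    obtain ⟨φ, hφ⟩ := exists_powAdd r s
    refine ⟨(TensorMod.Basic.assoc _ _ _).inv ≫ tmap φ (𝟙 L), fun U e => ?_⟩
    have h : (TensorMod.Basic.assoc (CohB1.tensorPow L r) (CohB1.tensorPow L s) L).inv.app U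
        (tens (powSec e r) (tens (powSec e s) e)) = tens (tens (powSec e r) (powSec e s)) e := by
      rw [← Surj.assoc_tens]
      exact inv_app_hom_app _ _
    exact (comp_app_apply _ (tmap φ (𝟙 L)) _).trans ((congrArg ((tmap φ (𝟙 L)).app U) h).trans
      ((tmap_tens _ _ _ _).trans (congrArg (tens · e) (hφ U e))))

/-- Coordinates of global sections of `L^r` on the locus of `s`. -/
def coord (s : Γ(L, ⊤)) (r : ℕ) : Set Γ(X, locus s) :=
  {a | ∃ z : Γ(CohB1.tensorPow L r, ⊤), gl z (locus s) = a • powSec (gl s (locus s)) r}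

variable (s : Γ(L, ⊤))

theorem one_mem_coord (r : ℕ) : (1 : Γ(X, locus s)) ∈ coord s r :=
  ⟨powSec s r, by rw [one_smul, gl, rs_powSec]⟩

theorem coord_mul {r r' : ℕ} {a b : Γ(X, locus s)} (ha : a ∈ coord s r) (hb : b ∈ coord s r') :
    a * b ∈ coord s (r + r') := by
  obtain ⟨z, hz⟩ := ha
  obtain ⟨w, hw⟩ := hb
  obtain ⟨φ, hφ⟩ := exists_powAdd (L := L) r r'
  refine ⟨φ.app ⊤ (tens z w), ?_⟩
  have h : gl (tens z w : Γ(CohB1.tensorMod _ _, ⊤)) (locus s) = tens (gl z (locus s)) (gl w (locus s)) :=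
    rs_tens (le_top : locus s ≤ ⊤) z w
  rw [← app_gl, h, hz, hw, tens_smul_left, tens_smul_right, smul_smul, ← hφ (locus s) (gl s (locus s))]
  exact (φ.val.app (op (locus s))).hom.map_smul (a * b) _

theorem coord_one_mem {t : Γ(L, ⊤)} {a : Γ(X, locus s)} (ha : gl t (locus s) = a • gl s (locus s)) :
    a ∈ coord s 1 := by
  refine ⟨(SecTwist.tmul (CohB1.tensorPow L 0) L ⊤ (powSec s 0) t : Γ(CohB1.tensorPow L 1, ⊤)), ?_⟩
  refine (rs_tmul (le_top : locus s ≤ ⊤) _ _).trans ?_
  rw [rs_powSec, show rs L (le_top : locus s ≤ ⊤) t = a • gl s (locus s) from ha]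
  have := tmul_smul (1 : Γ(X, locus s)) a (powSec (gl s (locus s)) 0) (gl s (locus s))
  rw [one_smul, _root_.one_mul] at this
  exact this

theorem prod_mem_coord {n m : ℕ} (b : Fin n → Γ(X, locus s)) (key : ∀ (e : ℕ) (i : Fin n), b i ^ e ∈ coord s (m * e))
    (d : Fin n →₀ ℕ) : (d.prod fun i e => b i ^ e) ∈ coord s (m * d.sum fun _ e => e) := by
  induction d using Finsupp.induction with
  | zero => simpa using one_mem_coord s 0
  | single_add i e d hid he ih =>
    rw [Finsupp.prod_add_index' (fun i => pow_zero (b i)) (fun i a c => pow_add (b i) a c),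
      Finsupp.prod_single_index (h := fun i e => b i ^ e) (pow_zero (b i)), Finsupp.sum_add_index' (fun _ => rfl) (fun _ _ _ => rfl),
      Finsupp.sum_single_index rfl, Nat.mul_add]
    exact coord_mul s (key e i) ih

variable {k : Type u} [Field k] [X.Over (Spec (CommRingCat.of k))]

/-- The scalars on an open. -/
abbrev scal (U : X.Opens) : k →+* Γ(X, U) :=
  ((X ↘ Spec (CommRingCat.of k)).appLE ⊤ U le_top).hom.comp (Scheme.ΓSpecIso (CommRingCat.of k)).inv.hom

variable [IsProper (X ↘ Spec (CommRingCat.of k))]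

/-- A spanning family of given size. -/
theorem exists_span {M : X.Modules} (hM : Coh.IsCoh M) (n : ℕ) (h : Module.finrank k (Coh.HH X M 0) ≤ n) :
    ∃ w : Fin n → Γ(M, ⊤), ∀ z : Γ(M, ⊤), ∃ c : Fin n → k,
      z = ∑ j, (show Γ(X, ⊤) from Coh.toGlobal (X ↘ Spec (CommRingCat.of k)) (c j)) • w j := by
  letI := Curves.GlobalSections.secModule k M
  haveI : Module.Finite k (M.val.obj (op ⊤) : Type u) := by
    haveI := Snapper.Finite.cohFinite k X M hM 0
    exact Module.Finite.equiv (Curves.GlobalSections.h0Linear k M)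
  have h' : Module.finrank k (M.val.obj (op ⊤) : Type u) ≤ n :=
    ((Curves.GlobalSections.h0Linear k M).finrank_eq).symm.trans_le h
  let b := Module.finBasis k (M.val.obj (op ⊤) : Type u)
  let w : Fin n → Γ(M, ⊤) := fun j => if hj : j.1 < Module.finrank k (M.val.obj (op ⊤) : Type u) then b ⟨j.1, hj⟩ else 0
  have hspan : Submodule.span k (Set.range fun j => (show (M.val.obj (op ⊤) : Type u) from w j)) = ⊤ := by
    rw [eq_top_iff, ← b.span_eq]
    refine Submodule.span_mono ?_
    rintro _ ⟨i, rfl⟩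
    exact ⟨⟨i.1, i.2.trans_le h'⟩, dif_pos i.2⟩
  refine ⟨w, fun z => ?_⟩
  obtain ⟨c, hc⟩ := (Submodule.mem_span_range_iff_exists_fun k).mp
    (hspan ▸ Submodule.mem_top : (show (M.val.obj (op ⊤) : Type u) from z) ∈ _)
  exact ⟨c, hc.symm⟩

omit [IsProper (X ↘ Spec (CommRingCat.of k))] in
/-- Coordinates of combinations. -/
theorem coord_sum {n r : ℕ} (w : Fin n → Γ(CohB1.tensorPow L r, ⊤))
    (hw : ∀ z : Γ(CohB1.tensorPow L r, ⊤), ∃ c : Fin n → k,
      z = ∑ j, (show Γ(X, ⊤) from Coh.toGlobal (X ↘ Spec (CommRingCat.of k)) (c j)) • w j)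
    (b : Fin n → Γ(X, locus s)) (hb : ∀ j, gl (w j) (locus s) = b j • powSec (gl s (locus s)) r)
    {a : Γ(X, locus s)} (ha : a ∈ coord s r) : ∃ c : Fin n → k, a = ∑ j, scal (locus s) (c j) * b j := by
  obtain ⟨z, hz⟩ := ha
  obtain ⟨c, hc⟩ := hw z
  refine ⟨c, (isGen_powSec (isGen_locus s) r (locus s) le_rfl).1 ?_⟩
  simp only [rs_self]
  rw [← hz, hc, gl, Finset.sum_smul]
  refine (map_sum ((CohB1.tensorPow L r).presheaf.map (homOfLE (le_top : locus s ≤ ⊤)).op).hom _ _).trans
    (Finset.sum_congr rfl fun j _ => ?_)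
  change rs (CohB1.tensorPow L r) (le_top : locus s ≤ ⊤) (_ • w j) = _
  rw [rs_smul, show rs (CohB1.tensorPow L r) (le_top : locus s ≤ ⊤) (w j) = b j • powSec (gl s (locus s)) r from hb j,
    smul_smul]
  rfl

/-- **The chart.** -/
theorem exists_model [IsIntegral X] (hA : CohB1.IsAmple L) (hgg : Curv2.IsGloballyGenerated L) {G m n C : ℕ}
    (hG : topologicalKrullDim X = (G : WithBot ℕ∞)) (hm : G < m)
    (h0 : ∀ j : ℕ, Module.finrank k (Coh.HH X (CohB1.tensorPow L j) 0) ≤ C * (j + 1) ^ G)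
    (hm' : C * 2 ^ G ≤ m + 1) (hn : C * (m + 1) ^ G ≤ n)
    (hv : ∀ p j : ℕ, 1 ≤ p → 1 ≤ j → Subsingleton (Coh.HH X (CohB1.tensorPow L j) p)) :
    ∃ (U : X.Opens) (P : Ideal (MvPolynomial (Fin n) k)), (U : Set X).Nonempty ∧ P.IsPrime ∧
      ringKrullDim (MvPolynomial (Fin n) k ⧸ P) = (G : WithBot ℕ∞) ∧ Models.Bounded G (C * (m + 1) ^ G) P ∧
      ∃ e : (U : Scheme.{u}) ≅ Spec (CommRingCat.of (MvPolynomial (Fin n) k ⧸ P)),
        e.hom ≫ Spec.map (CommRingCat.ofHom (algebraMap k (MvPolynomial (Fin n) k ⧸ P))) =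
          U.ι ≫ (X ↘ Spec (CommRingCat.of k)) := by
  obtain ⟨hL, hc, -⟩ := Ample.Pow.isAmple_iff.1 hA
  haveI := hc
  haveI := Ample.Pullback.quasiSeparatedSpace_of_isAmple hA
  haveI := Curves.GlobalSections.noetherianSpace_of_proper k X
  set q := X ↘ Spec (CommRingCat.of k)
  have hcoh : ∀ r, Coh.IsCoh (CohB1.tensorPow L r) := fun r =>
    Ample.GG.isCoh_of_isInvertible (Invertible.isInvertible_tensorPow hL r)
  -- generating sections of `L`
  let e₁ : CohB1.tensorPow L 1 ≅ L := leftUnit L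
  obtain ⟨t₁, ht₁⟩ := exists_span (hcoh 1) (m + 1) ((h0 1).trans hm')
  let t : Fin (m + 1) → Γ(L, ⊤) := fun j => e₁.hom.app ⊤ (t₁ j)
  letI := Curves.GlobalSections.secModule k L
  have hspan : Submodule.span k (Set.range fun j => (show (L.val.obj (op ⊤) : Type u) from t j)) = ⊤ := by
    rw [eq_top_iff]
    intro z _
    obtain ⟨c, hc⟩ := ht₁ (e₁.inv.app ⊤ z)
    have h : (show Γ(L, ⊤) from z) = ∑ j, (show Γ(X, ⊤) from Coh.toGlobal q (c j)) • t j := by
      have h' := congrArg (e₁.hom.app ⊤) hc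
      rw [map_sum] at h'
      refine Eq.trans ?_ (h'.trans (Finset.sum_congr rfl fun j _ => (e₁.hom.val.app (op ⊤)).hom.map_smul _ _))
      change z = (e₁.inv ≫ e₁.hom).app ⊤ z
      rw [e₁.inv_hom_id]
      rfl
    exact (Submodule.mem_span_range_iff_exists_fun k).2 ⟨c, h.symm⟩
  have hcov : ∀ x, ∃ i, x ∈ locus (t i) :=
    exists_mem_locus hL (Curves.VeryAmple.generatedBy_of_span hgg t hspan)
  obtain ⟨i₀, hi₀⟩ := hcov (genericPoint X)
  let s := t i₀
  let U := locus s
  haveI : Nonempty U := ⟨⟨_, hi₀⟩⟩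
  have hne : (U : Set X).Nonempty := ⟨_, hi₀⟩
  have hU : IsAffineOpen U := H97.GenLocusAffine.isAffineOpen_genLocus q hA _
  -- generators
  obtain ⟨w, hw⟩ := exists_span (hcoh m) n ((h0 m).trans hn)
  choose b hb using fun j => exists_coord (isGen_powSec (isGen_locus s) m) (gl (w j) U)
  letI : Algebra k Γ(X, U) := (scal U).toAlgebra
  let ψ : MvPolynomial (Fin n) k →ₐ[k] Γ(X, U) := MvPolynomial.aeval b
  have hcm : coord s m ⊆ ψ.range := by
    intro a ha
    obtain ⟨c, rfl⟩ := coord_sum s w hw b hb ha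
    refine ⟨∑ j, MvPolynomial.C (c j) * MvPolynomial.X j, ?_⟩
    change ψ _ = _
    simp only [ψ, map_sum, map_mul, MvPolynomial.aeval_C, MvPolynomial.aeval_X]
    rfl
  have hc1 : ∀ a ∈ coord s 1, a ∈ ψ.range := fun a ha => hcm (by
    have := coord_mul s ha (one_mem_coord s (m - 1))
    rwa [_root_.mul_one, show 1 + (m - 1) = m by omega] at this)
  have hpow : ∀ r, m ≤ r → ∀ z : Γ(CohB1.tensorPow L r, ⊤), ∃ a ∈ ψ.range.toSubring,
      gl z U = a • powSec (gl s U) r := by
    intro r hr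
    induction r, hr using Nat.le_induction with
    | base =>
      intro z
      obtain ⟨a, ha⟩ := exists_coord (isGen_powSec (isGen_locus s) m) (gl z U)
      exact ⟨a, hcm ⟨z, ha⟩, ha⟩
    | succ r hr ih =>
      intro z
      obtain ⟨a, rfl⟩ : ∃ a, r = a + m := ⟨r - m, by omega⟩
      obtain ⟨y, rfl⟩ := SecKoszul.exists_sum (R := k) t hL hcov a (fun p hp hpm => by
        by_cases hpG : p ≤ G
        · exact hv p _ hp (by omega)
        · exact Snapper.Chi.subsingleton_HH_of_lt hG.le _ (lt_of_not_ge hpG)) z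
      choose c hc hcy using fun j => ih (y j)
      choose d hd using fun j => exists_coord (isGen_locus s) (gl (t j) U)
      refine ⟨∑ j, c j * d j, sum_mem fun j _ => mul_mem (hc j) (hc1 _ (coord_one_mem s (hd j))), ?_⟩
      rw [gl, Finset.sum_smul]
      refine (map_sum ((CohB1.tensorPow L (a + m + 1)).presheaf.map (homOfLE (le_top : U ≤ ⊤)).op).hom _ _).trans
        (Finset.sum_congr rfl fun j _ => ?_)
      refine (rs_tmul (le_top : U ≤ ⊤) (y j) (t j)).trans ?_
      rw [show rs (CohB1.tensorPow L (a + m)) (le_top : U ≤ ⊤) (y j) = c j • powSec (gl s U) (a + m) from hcy j,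
        show rs L (le_top : U ≤ ⊤) (t j) = d j • gl s U from hd j]
      exact tmul_smul (c j) (d j) _ _
  have hsurj : Function.Surjective ψ := fun x => Curves.NormalGen.mem_of_coord hL s ψ.range.toSubring m hpow x
  -- growth
  have hgr : ∀ (j : ℕ) (p : MvPolynomial (Fin n) k), p.totalDegree ≤ j → ∀ d ∈ p.support,
      (d.prod fun i e => b i ^ e) ∈ coord s (m * j) := by
    intro j p hp d hd
    have hdeg : (d.sum fun _ e => e) ≤ j := (MvPolynomial.le_totalDegree hd).trans hp
    have key : ∀ (e : ℕ) (i : Fin n), b i ^ e ∈ coord s (m * e) := fun e i => by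
      induction e with
      | zero => rw [pow_zero]; exact one_mem_coord s _
      | succ e ih =>
        rw [pow_succ, Nat.mul_succ]
        exact coord_mul s ih ⟨w i, hb i⟩
    have h1 := prod_mem_coord s b key d
    have h2 := coord_mul s h1 (one_mem_coord s (m * (j - d.sum fun _ e => e)))
    rwa [_root_.mul_one, ← Nat.mul_add, Nat.add_sub_cancel' hdeg] at h2
  haveI : IsIntegral (U : Scheme.{u}) := inferInstance
  haveI : IsDomain Γ(X, U) := inferInstance
  let P : Ideal (MvPolynomial (Fin n) k) := RingHom.ker ψ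
  haveI hP : P.IsPrime := RingHom.ker_isPrime _
  let eR : (MvPolynomial (Fin n) k ⧸ P) ≃ₐ[k] Γ(X, U) := Ideal.quotientKerAlgEquivOfSurjective hsurj
  refine ⟨U, P, hne, hP, ?_, fun j => ?_, ?_⟩
  · rw [ringKrullDim_eq_of_ringEquiv eR.toRingEquiv, ← PrimeSpectrum.topologicalKrullDim_eq_ringKrullDim]
    refine Eq.trans (IsHomeomorph.topologicalKrullDim_eq _ (hU.isoSpec.inv.homeomorph).isHomeomorph) ?_
    exact (AffineCompl.Dim.topologicalKrullDim_opens q U).trans hG
  · obtain ⟨w', hw'⟩ := exists_span (k := k) (hcoh (m * j)) _ le_rfl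
    choose b' hb' using fun i => exists_coord (isGen_powSec (isGen_locus s) (m * j)) (gl (w' i) U)
    let ι : (MvPolynomial (Fin n) k ⧸ P) →ₐ[k] Γ(X, U) := eR.toAlgHom
    have hle : ((MvPolynomial.restrictTotalDegree (Fin n) k j).map (Ideal.Quotient.mkₐ k P).toLinearMap).map
        ι.toLinearMap ≤ Submodule.span k (Set.range b') := by
      rintro _ ⟨_, ⟨p, hp, rfl⟩, rfl⟩
      change ψ p ∈ _
      rw [SetLike.mem_coe, MvPolynomial.mem_restrictTotalDegree] at hp
      rw [show ψ p = _ from MvPolynomial.aeval_def b p, MvPolynomial.eval₂_eq]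
      refine Submodule.sum_mem _ fun d hd => ?_
      rw [← Algebra.smul_def]
      refine Submodule.smul_mem _ _ ?_
      obtain ⟨c, hc⟩ := coord_sum s w' hw' b' hb' (hgr j p hp d hd)
      rw [show (∏ i ∈ d.support, b i ^ d i) = d.prod fun i e => b i ^ e from rfl, hc]
      refine Submodule.sum_mem _ fun i _ => ?_
      rw [show scal U (c i) * b' i = c i • b' i from (Algebra.smul_def (c i) (b' i)).symm]
      exact Submodule.smul_mem _ _ (Submodule.subset_span ⟨i, rfl⟩)
    haveI : Module.Finite k (Submodule.span k (Set.range b')) := Module.Finite.span_of_finite k (Set.finite_range b')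
    have h1 := (Submodule.finrank_mono hle).trans (finrank_range_le_card b')
    rw [Fintype.card_fin] at h1
    rw [← (Submodule.equivMapOfInjective ι.toLinearMap eR.injective _).finrank_eq] at h1
    refine h1.trans ((h0 (m * j)).trans ?_)
    rw [mul_assoc, ← mul_pow]
    refine Nat.mul_le_mul_left _ (Nat.pow_le_pow_left ?_ _)
    rw [Nat.add_mul, Nat.mul_add]
    omega
  · refine ⟨hU.isoSpec ≪≫ Scheme.Spec.mapIso eR.toRingEquiv.toCommRingCatIso.op, ?_⟩
    show (hU.isoSpec.hom ≫ Spec.map (CommRingCat.ofHom eR.toRingHom)) ≫ _ = _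
    rw [Category.assoc, ← Spec.map_comp, ← CommRingCat.ofHom_comp,
      show eR.toRingEquiv.toRingHom.comp (algebraMap k _) = scal U from RingHom.ext fun c => eR.commutes c]
    rw [show CommRingCat.ofHom (scal U) = (Scheme.ΓSpecIso (CommRingCat.of k)).inv ≫ q.appLE ⊤ U le_top from rfl,
      Spec.map_comp, ← Category.assoc]
    rw [Category.assoc, show Spec.map (Scheme.ΓSpecIso (CommRingCat.of k)).inv =
        (isAffineOpen_top (Spec (CommRingCat.of k))).fromSpec by
      rw [IsAffineOpen.fromSpec_top, Scheme.isoSpec_Spec_inv],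
      IsAffineOpen.SpecMap_appLE_fromSpec q (isAffineOpen_top _) hU, ← Category.assoc]
    congr 1
    rw [IsAffineOpen.fromSpec, Iso.hom_inv_id_assoc]

end Groth.Agent.H63.Tate.Chart
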