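import Groth.Agent.H63.Tate.Perp
import Groth.Agent.H63.GalQuotient
import Groth.Agent.Lib.PicFppf.Classes
import Groth.Agent.H2.Rigid.PushFlat
import Groth.Agent.H2.Rigid.Smooth
import Groth.Agent.Lib.GrpSch.ConnFibre

/-!
# Descent of the pairing class to the two quotients

* `exists_descend`: the class on `Q' ⊗ Q''` pulling back to the class of the identity
-/

set_option autoImplicit false
set_option linter.style.haveILetI false
set_option synthInstance.maxHeartbeats 200000

universe u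

open CategoryTheory CategoryTheory.Limits MonoidalCategory CartesianMonoidalCategory AlgebraicGeometry
open scoped MonObj GrpObj
open Groth.Agent.H3 Groth.Agent.Lib Groth.Agent.H4 Groth.Agent.Lib.PicFppf.Classes Groth.Agent.Lib.PicFppf.Rigid

noncomputable section

namespace Groth.Agent.H63.Tate.Descend

local instance (Y : Scheme.{u}) : PicGrp.Law Y := Groth.Agent.Lib.TensorMod.Invertible.law Y

variable {k : Type u} [Field k] (Ω : Type u) [Field Ω] [Algebra k Ω] [IsAlgClosure k Ω]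
  {Q Q' : Over (Spec (CommRingCat.of k))} [GrpObj Q] [IsCommMonObj Q] [IsProper Q.hom] [GeometricallyIntegral Q.hom]
  [GrpObj Q'] [IsProper Q'.hom] [GeometricallyIntegral Q'.hom]

theorem pc_left {A B : Over (Spec (CommRingCat.of k))} (g : A ⟶ B) (c : PicLoc.PicSet B.left) :
    pc g.left c = PicCalc.ph g c := Subtype.ext rfl

/-- **Descent.** -/
theorem exists_descend {n : ℕ} (hn : (n : k) ≠ 0) (ℓ : PicLoc.PicSet Q.left) {q : Q ⟶ Q'} [IsMonHom q]
    [IsFinite q.left] [Flat q.left] [Surjective q.left] {v : Q' ⟶ Q} [IsMonHom v] (hqv : q ≫ v = (𝟙 Q) ^ n) (hvq : v ≫ q = (𝟙 Q') ^ n)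
    (K' : Subgroup (SGA7.pt (K := k) Ω ⟶ Q)) (hK' : ∀ x ∈ K', x ^ n = 1)
    (hgal : ∀ (τ : Ω ≃ₐ[k] Ω), ∀ x ∈ K', SGA7.galAct τ x ∈ K') (hcl : ∀ x ∈ K', Perp.cl ℓ v x = 1) :
    ∃ (Q'' : Over (Spec (CommRingCat.of k))) (_ : GrpObj Q'') (_ : IsProper Q''.hom)
      (_ : GeometricallyIntegral Q''.hom) (r : Q ⟶ Q'') (_ : IsMonHom r) (Φ : PicLoc.PicSet (Q' ⊗ Q'').left),
      (∀ a : SGA7.pt (K := k) Ω ⟶ Q, a ≫ r = 1 ↔ a ∈ K') ∧ IsFinite r.left ∧ Surjective r.left ∧
      PicCalc.ph (Q' ◁ r) Φ = Perp.cl ℓ v (𝟙 Q) := by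
  obtain ⟨Q'', gQ'', r, v', hp, hgi, hr, hrf, hrs, hv', hrv, hvr, hker⟩ :=
    GalQuotient.exists_quotient Ω hn K' hK' hgal
  letI := gQ''; haveI := hp; haveI := hgi; haveI := hr; haveI := hrf; haveI := hrs
  haveI : Etale r.left := Perp.etale_of_div hrv hvr hn
  refine ⟨Q'', gQ'', hp, hgi, r, hr, ?_⟩
  haveI : Smooth Q'.hom := H4.HomImage.smooth_of_geometricallyReduced Q'
  haveI : IsIntegral Q'.left := GeometricallyIntegral.isIntegral_of_subsingleton Q'.hom
  haveI : ConnectedSpace Q'.left := inferInstance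
  haveI : GeometricallyConnected Q'.hom :=
    Groth.Agent.Lib.GrpSch.geometricallyConnected_of_rationalPoint Q'.hom η[Q'].left (Over.w η[Q'])
  have hσ : η[Q'].left ≫ Q'.hom = 𝟙 _ := Over.w η[Q']
  have ha : ∀ (T : Over (Spec (CommRingCat.of k))) (U : T.left.Opens), IsIso ((PicF.XTproj Q'.hom T).app U) := by
    intro T U
    haveI : GeometricallyReduced (pullback.snd Q'.hom T.hom) :=
      Groth.Agent.H2.Rigid.geometricallyReduced_of_smooth _
    exact (ConcreteCategory.isIso_iff_bijective _).2 (Groth.Agent.H2.Rigid.PushFlat.push_of_flat_fp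
      (pullback.snd Q'.hom T.hom) (Groth.Agent.H2.Rigid.H0.of_geometrically (pullback.snd Q'.hom T.hom)) U)
  let Qm := AbDual.ovr Q'' r.left
  let e : Qm ⟶ Q := Over.homMk (𝟙 Q.left) ((Category.id_comp _).trans (Over.w r).symm)
  let e' : Q ⟶ Qm := Over.homMk (𝟙 Q.left) ((Category.id_comp _).trans (Over.w r))
  -- the kernel of `r`
  obtain ⟨N, gN, i, hi, hN, -⟩ := H4.IsogenyFactor.exists_kernel r
  haveI := hi
  haveI : IsFinite N.hom := H4.KernelSquare.hom_of r i hN (P := @IsFinite) inferInstance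
  haveI : Etale N.hom := H4.KernelSquare.hom_of r i hN (P := @Etale) inferInstance
  have hir : i ≫ r = 1 := H4.KernelSquare.comp_eq_one r i hN
  have hiv : i ^ n = 1 := by
    rw [← Category.comp_id i, ← MonObj.comp_pow, ← hrv, ← Category.assoc, hir, MonObj.one_comp]
  have hi1 : Perp.cl ℓ v i = 1 := Perp.cl_eq_one Ω ℓ hn hqv hvq i hiv fun a =>
    hcl _ ((hker _).1 (by rw [Category.assoc, hir, MonObj.comp_one]))
  obtain ⟨d, -, hd⟩ := exists_glue Q'.hom η[Q'].left hσ ha Q'' («ι» := PUnit.{u + 1}) (fun _ => Q.left)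
    (fun _ => r.left) (fun _ => inferInstance) (fun _ => inferInstance)
    (fun t => ⟨PUnit.unit, r.left.surjective t⟩) (fun _ => Perp.cl ℓ v e)
    (fun _ => by
      have hs : PicF.secT Q'.hom η[Q'].left hσ Qm = (lift (toUnit Qm ≫ η[Q']) (𝟙 Qm)).left := by
        apply pullback.hom_ext
        · refine (secT_fst _ _ _ _).trans ?_
          exact (congrArg Over.Hom.left (lift_fst (toUnit Qm ≫ η[Q']) (𝟙 Qm))).symm
        · refine (secT_snd _ _ _ _).trans ?_
          exact (congrArg Over.Hom.left (lift_snd (toUnit Qm ≫ η[Q']) (𝟙 Qm))).symm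
      show pc (PicF.secT Q'.hom η[Q'].left hσ Qm) (Perp.cl ℓ v e) = 1
      rw [hs, pc_left, Perp.cl, Bilinear.natural, lift_fst_assoc, lift_snd_assoc, Category.id_comp]
      rw [Category.assoc, IsMonHom.one_hom v, ← Hom.one_def, Bilinear.one_left])
    (fun a b => by
      let K2S := K2 (fun _ : PUnit.{u + 1} => slice Q'.hom Q'' r.left) a b
      let R : Over (Spec (CommRingCat.of k)) := Over.mk (K2S.v ≫ Q''.hom)
      let a₁ : R ⟶ Qm := Over.homMk (p₁ (K := fun _ : PUnit.{u + 1} => slice Q'.hom Q'' r.left) a b) (by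
        exact (Category.assoc _ _ _).symm.trans (congrArg (· ≫ Q''.hom) (p₁_v _ _)))
      let a₂ : R ⟶ Qm := Over.homMk (p₂ (K := fun _ : PUnit.{u + 1} => slice Q'.hom Q'' r.left) a b) (by
        exact (Category.assoc _ _ _).symm.trans (congrArg (· ≫ Q''.hom) (p₂_v _ _)))
      let θ : K2S.P ⟶ (Q' ⊗ R).left := pullback.lift (K2S.pr ≫ pullback.fst Q'.hom Q''.hom) K2S.sn (by
        show (K2S.pr ≫ pullback.fst Q'.hom Q''.hom) ≫ Q'.hom = K2S.sn ≫ K2S.v ≫ Q''.hom
        rw [Category.assoc, pullback.condition, ← Category.assoc, ← Category.assoc, K2S.sq.w])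
      have hmap : ∀ (α : R ⟶ Qm) (h : α.left ≫ r.left = K2S.v),
          Slice.map (K := K2S) (K' := slice Q'.hom Q'' r.left) α.left h = θ ≫ (Q' ◁ α).left := by
        intro α h
        rw [← PicZero.XTmap_eq]
        apply pullback.hom_ext
        · rw [← XTmap_fst Q'.hom (AbDual.ovrHom Q'' r.left), ← Category.assoc, ← Category.assoc]
          refine (congrArg (· ≫ pullback.fst Q'.hom Q''.hom) (Slice.map_pr (K := K2S)
            (K' := slice Q'.hom Q'' r.left) α.left h)).trans ?_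
          simp only [Category.assoc]
          erw [XTmap_fst, XTmap_fst]
          exact (pullback.lift_fst _ _ _).symm
        · refine (Slice.map_sn (K := K2S) (K' := slice Q'.hom Q'' r.left) α.left h).trans ?_
          rw [Category.assoc, XTmap_snd, ← Category.assoc]
          exact congrArg (· ≫ α.left) (pullback.lift_snd _ _ _).symm
      show pc (Slice.map (K := K2S) (K' := slice Q'.hom Q'' r.left) a₁.left _) _ =
        pc (Slice.map (K := K2S) (K' := slice Q'.hom Q'' r.left) a₂.left _) _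
      rw [hmap, hmap]
      refine (pc_comp _ _ _).trans (Eq.trans ?_ (pc_comp _ _ _).symm)
      refine congrArg (pc θ) ?_
      refine (pc_left (Q' ◁ a₁) _).trans (Eq.trans ?_ (pc_left (Q' ◁ a₂) _).symm)
      rw [Perp.cl_natural, Perp.cl_natural]
      have he : (a₁ ≫ e) ≫ r = (a₂ ≫ e) ≫ r := Over.OverMorphism.ext (by
        show (_ ≫ 𝟙 Q.left) ≫ r.left = (_ ≫ 𝟙 Q.left) ≫ r.left
        rw [Category.comp_id, Category.comp_id]
        exact (p₁_v _ _).trans (p₂_v _ _).symm)
      let y : R ⟶ N := hN.lift ((a₁ ≫ e)⁻¹ * (a₂ ≫ e)) (toUnit _)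
        (by rw [MonObj.mul_comp, GrpObj.inv_comp, he, inv_mul_cancel, Hom.one_def])
      have hy : (a₁ ≫ e) * (y ≫ i) = a₂ ≫ e := by rw [hN.lift_fst, mul_inv_cancel_left]
      rw [← hy, Perp.cl_mul, ← Perp.cl_natural ℓ v y i, hi1, map_one, _root_.mul_one])
  refine ⟨d, hker, hrf, hrs, ?_⟩
  have h := congrArg (PicCalc.ph (Q' ◁ e')) (show PicCalc.ph (Q' ◁ AbDual.ovrHom Q'' r.left) d = Perp.cl ℓ v e by
    rw [← pc_left, ← PicZero.XTmap_eq]; exact hd PUnit.unit)
  rw [← PicCalc.ph_comp, ← MonoidalCategory.whiskerLeft_comp, Perp.cl_natural] at h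
  rwa [show e' ≫ AbDual.ovrHom Q'' r.left = r from Over.OverMorphism.ext (Category.id_comp _),
    show e' ≫ e = 𝟙 Q from Over.OverMorphism.ext (Category.id_comp _)] at h

end Groth.Agent.H63.Tate.Descend
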