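import Groth.Agent.S14124
import Groth.Agent.S1646
import Groth.Agent.H52.EulerHomogeneous
import Groth.Agent.H52.NondegAmple
import Groth.Agent.H63.AVBaseChange
import Groth.Agent.Lib.Ample.RelAmple
import Groth.Agent.Lib.ExchangeFP29.FieldPoint
import Groth.Agent.Lib.Exchange.NearFibre
import Groth.Agent.Lib.TensorMod.FPConv
import Groth.Agent.Lib.Curves.GlobalSections
import Groth.Agent.H63.Tate.Birat
import Groth.Agent.Lib.GrpSch.ConnFibre
import Groth.Agent.Lib.Exchange.FiniteAmpleMain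
import Groth.Agent.H52.AmpleNondeg

/-!
# Cohomology of powers of an ample module on an abelian variety over any field

* `finrank_le`, `subsingleton_HH`, `globallyGenerated_sq`
-/

set_option autoImplicit false
set_option linter.style.haveILetI false

universe u

open CategoryTheory CategoryTheory.Limits MonoidalCategory CartesianMonoidalCategory MonObj AlgebraicGeometry
open Groth.Agent.Lib Groth.Agent.H3

noncomputable section

namespace Groth.Agent.H63.Tate.Polarised

local instance (Y : Scheme.{u}) : PicGrp.Law Y := Groth.Agent.Lib.TensorMod.Invertible.law Y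

section Alg

variable {K : Type u} [Field K] [IsAlgClosed K] {A : Over (Spec (CommRingCat.of K))} [GrpObj A] [IsProper A.hom]
  [GeometricallyIntegral A.hom]

theorem geometricallyConnected (A : Over (Spec (CommRingCat.of K))) [GrpObj A] [IsProper A.hom] [GeometricallyIntegral A.hom] :
    GeometricallyConnected A.hom := by
  haveI : IsIntegral A.left := GeometricallyIntegral.isIntegral_of_subsingleton A.hom
  haveI : ConnectedSpace A.left := inferInstance
  exact Lib.GrpSch.geometricallyConnected_of_rationalPoint A.hom η[A].left (Over.w η[A])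

/-- `h⁰ = χ` for ample modules. -/
theorem finrank_h0 {L : A.left.Modules} (hA : CohB1.IsAmple L) :
    ((@Module.finrank K (Coh.HH A.left L 0) _ _ (@Coh.moduleOver K _ A.left ⟨A.hom⟩ L 0) : ℕ) : ℤ) = @Curv2.euler K _ A.left ⟨A.hom⟩ L := by
  letI : A.left.Over (Spec (CommRingCat.of K)) := ⟨A.hom⟩
  haveI := Birat.smooth A
  haveI := geometricallyConnected A
  have hv := (S14124.result K A L hA).1
  rw [Curv2.euler, finsum_eq_single _ 0 fun n hn => ?_]
  · simp
  · haveI := hv n (Nat.pos_of_ne_zero hn)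
    rw [Module.finrank_zero_of_subsingleton]
    simp

theorem finrank_h0_le (g : ℕ) (hg : topologicalKrullDim A.left = g) {M N : A.left.Modules} (hA : CohB1.IsAmple M)
    (d : ℕ) (hd : @Curv2.euler K _ A.left ⟨A.hom⟩ M ≤ d) (m : ℕ) (hm : 0 < m)
    (e : N ≅ CohB1.tensorPow M m) :
    (@Module.finrank K (Coh.HH A.left N 0) _ _ (@Coh.moduleOver K _ A.left ⟨A.hom⟩ N 0)) ≤ d * m ^ g := by
  letI : A.left.Over (Spec (CommRingCat.of K)) := ⟨A.hom⟩
  haveI : IsProper (A.left ↘ Spec (CommRingCat.of K)) := ‹IsProper A.hom›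
  have hL := (Ample.Pow.isAmple_iff.1 hA).1
  have hAm : CohB1.IsAmple (CohB1.tensorPow M m) := (Ample.Pow.isAmple_tensorPow_iff hL hm).1 hA
  rw [((Curves.LES.isoK K e 0)).finrank_eq]
  have h1 := finrank_h0 hAm
  have h2 := H52.EulerHomogeneous.euler_pow g hg M hL ((H52.AmpleNondeg.finite_translationFixing A M hA).subset
    fun a ha => (PicCalc.iso_iff (PicCalc.cl_pullback _ (a := PicGrp.cls M hL) rfl) (b := PicGrp.cls M hL) rfl).mpr ha) m hm
  rw [h2] at h1
  have h3 : ((Module.finrank K (Coh.HH A.left (CohB1.tensorPow M m) 0) : ℕ) : ℤ) ≤ ((d * m ^ g : ℕ) : ℤ) := by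
    rw [h1, mul_comm d, Nat.cast_mul, Nat.cast_pow]
    exact mul_le_mul_of_nonneg_left hd (pow_nonneg (Int.natCast_nonneg _) _)
  exact_mod_cast h3

/-- The square of an ample module is globally generated. -/
theorem globallyGenerated_sq_alg {L : A.left.Modules} (hA : CohB1.IsAmple L) :
    Curv2.IsGloballyGenerated (CohB1.tensorMod L L) := by
  letI : A.left.Over (Spec (CommRingCat.of K)) := ⟨A.hom⟩
  haveI := Birat.smooth A
  haveI := geometricallyConnected A
  haveI := (S14124.result K A L hA).2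
  obtain ⟨m, hm⟩ := exists_ne (0 : Coh.HH A.left L 0)
  refine Ample.GG.isGloballyGenerated_of_genAt fun x =>
    H52.NondegAmple.genAt_sq L (Ample.Pow.isAmple_iff.1 hA).1
      (Modules.Free.unitHom L (Curves.GlobalSections.h0Equiv L m)) (fun h => hm ?_) x
  refine (Curves.GlobalSections.h0Equiv L).injective ?_
  rw [map_zero, ← Modules.Free.unitHom_app_one L (Curves.GlobalSections.h0Equiv L m), h]
  rfl

end Alg

variable {k : Type u} [Field k] (Ω : Type u) [Field Ω] [Algebra k Ω] [IsAlgClosed Ω]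
  {Y : Over (Spec (CommRingCat.of k))} [GrpObj Y] [IsProper Y.hom] [GeometricallyIntegral Y.hom]

/-- The projection from the base change. -/
abbrev proj (Y : Over (Spec (CommRingCat.of k))) : (AVBaseChange.bc Ω Y).left ⟶ Y.left :=
  GrpSch.bcProj (GrpSch.extBase k Ω) Y

/-- The pullback to the base change. -/
abbrev bcM (M : Y.left.Modules) : (AVBaseChange.bc Ω Y).left.Modules := (Scheme.Modules.pullback (proj Ω Y)).obj M

theorem finrank_HH_bc {F : Y.left.Modules} (hF : PicF.IsInvertible F) (p : ℕ) :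
    @Module.finrank Ω (Coh.HH (AVBaseChange.bc Ω Y).left (bcM Ω F) p) _ _
        (@Coh.moduleOver Ω _ (AVBaseChange.bc Ω Y).left ⟨(AVBaseChange.bc Ω Y).hom⟩ (bcM Ω F) p) =
      @Module.finrank k (Coh.HH Y.left F p) _ _ (@Coh.moduleOver k _ Y.left ⟨Y.hom⟩ F p) := by
  have hl : FlatMod.IsFinLocFree F := TensorMod.LocFree.of_rank (TensorMod.LocFree.of_isInvertible hF)
  have hfp : CohB1.IsFP F := TensorMod.FPConv.isFP_of_isFinLocFree hl
  haveI : F.IsQuasicoherent := by
    obtain ⟨σ, -⟩ := SheafOfModules.IsFinitePresentation.exists_quasicoherentData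
      (show SheafOfModules Y.left.ringCatSheaf from F) (self := hfp)
    exact SheafOfModules.IsQuasicoherent.mk (C := Y.left.Opens) (R := Y.left.ringCatSheaf) (M := F) ⟨σ⟩
  haveI : LocallyOfFinitePresentation Y.hom := inferInstance
  have hfl : FlatMod.IsFlatOver Y.hom F := _root_.ZarCoh.Exchange.NearFibre.isFlatOver_of_isFinLocFree Y.hom hl
  have h1 := ExchangeFP29.FieldPoint.finrank_HH_eq Y.hom F hfp hfl (AVBaseChange.bc Ω Y).hom (GrpSch.extBase k Ω)
    (proj Ω Y) (GrpSch.isPullback_bc _ Y) p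
  have h2 := ExchangeFP29.FieldPoint.finrank_HH_eq Y.hom F hfp hfl Y.hom (𝟙 (Spec (CommRingCat.of k))) (𝟙 Y.left)
    (IsPullback.id_horiz _) p
  rw [Subsingleton.elim (α := PrimeSpectrum k) (GrpSch.extBase k Ω (IsLocalRing.closedPoint Ω)) ((𝟙 (Spec (CommRingCat.of k)) :
    Spec (CommRingCat.of k) ⟶ _) (IsLocalRing.closedPoint k))] at h1
  refine h1.trans (h2.symm.trans ?_)
  letI : Y.left.Over (Spec (CommRingCat.of k)) := ⟨Y.hom⟩
  exact (Curves.LES.isoK k ((Scheme.Modules.pullbackId Y.left).app F) p).finrank_eq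

theorem isAmple_bc {M : Y.left.Modules} (hA : CohB1.IsAmple M) : CohB1.IsAmple (bcM Ω M) := by
  haveI := AVBaseChange.isProper_bc Ω Y
  exact (Ample.RelAmple.isRelAmple_iff_isAmple (pullback.snd Y.hom (GrpSch.extBase k Ω))).1
    (Ample.RelAmple.isRelAmple_baseChange Y.hom _ ((Ample.RelAmple.isRelAmple_iff_isAmple Y.hom).2 hA))

/-- Pullback of powers. -/
theorem bcM_pow (M : Y.left.Modules) : ∀ m : ℕ, Nonempty (bcM Ω (CohB1.tensorPow M m) ≅ CohB1.tensorPow (bcM Ω M) m)
  | 0 => ⟨PicLoc.pullbackStructureIso (proj Ω Y)⟩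
  | m + 1 => by
    obtain ⟨e⟩ := bcM_pow M m
    exact ⟨TensorMod.Pullback.pullbackTensorIso (proj Ω Y) (CohB1.tensorPow M m) M ≪≫
      TensorMod.Basic.tensorIso e (Iso.refl _)⟩

/-- Powers of the square. -/
theorem sq_pow {M : Y.left.Modules} (hM : PicF.IsInvertible M) (j : ℕ) :
    Nonempty (CohB1.tensorPow (CohB1.tensorMod M M) j ≅ CohB1.tensorPow M (2 * j)) := by
  induction j with
  | zero => exact ⟨Iso.refl _⟩
  | succ j ih =>
    obtain ⟨e⟩ := ih
    exact ⟨TensorMod.Basic.tensorIso e (Iso.refl _) ≪≫ (TensorMod.Basic.assoc _ _ _).symm⟩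

variable {g : ℕ} (hg : topologicalKrullDim Y.left = g) {M : Y.left.Modules} (hA : CohB1.IsAmple M) (d : ℕ)
  (hd : @Curv2.euler Ω _ (AVBaseChange.bc Ω Y).left ⟨(AVBaseChange.bc Ω Y).hom⟩ (bcM Ω M) ≤ d)

include hg hA hd in
/-- Growth of sections. -/
theorem finrank_le (j : ℕ) :
    @Module.finrank k (Coh.HH Y.left (CohB1.tensorPow (CohB1.tensorMod M M) j) 0) _ _
        (@Coh.moduleOver k _ Y.left ⟨Y.hom⟩ (CohB1.tensorPow (CohB1.tensorMod M M) j) 0) ≤
      (d * 2 ^ g + 1) * (j + 1) ^ g := by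
  have hM := (Ample.Pow.isAmple_iff.1 hA).1
  have hsq : PicF.IsInvertible (CohB1.tensorPow (CohB1.tensorMod M M) j) :=
    TensorMod.Invertible.isInvertible_tensorPow (TensorMod.Invertible.isInvertible_tensorMod hM hM) j
  haveI := AVBaseChange.isProper_bc Ω Y
  haveI := AVBaseChange.geometricallyIntegral_bc Ω Y
  letI : (AVBaseChange.bc Ω Y).left.Over (Spec (CommRingCat.of Ω)) := ⟨(AVBaseChange.bc Ω Y).hom⟩
  rw [← finrank_HH_bc Ω hsq 0]
  obtain rfl | hj := Nat.eq_zero_or_pos j
  · haveI : IsIntegral (AVBaseChange.bc Ω Y).left :=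
      GeometricallyIntegral.isIntegral_of_subsingleton (AVBaseChange.bc Ω Y).hom
    haveI : IsProper ((AVBaseChange.bc Ω Y).left ↘ Spec (CommRingCat.of Ω)) := AVBaseChange.isProper_bc Ω Y
    show Module.finrank Ω (Coh.HH _ ((Scheme.Modules.pullback (proj Ω Y)).obj (Coh.structureModule Y.left)) 0) ≤ _
    rw [(Curves.LES.isoK Ω (PicLoc.pullbackStructureIso (proj Ω Y)) 0).finrank_eq,
      Curves.GlobalSections.finrank_h0_structure]
    exact Nat.one_le_iff_ne_zero.2 (by simp)
  · obtain ⟨e⟩ := sq_pow hM j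
    obtain ⟨e'⟩ := bcM_pow Ω M (2 * j)
    have h := finrank_h0_le g (AVBaseChange.topologicalKrullDim_bc Ω Y hg) (isAmple_bc Ω hA) d hd (2 * j) (by omega)
      ((Scheme.Modules.pullback (proj Ω Y)).mapIso e ≪≫ e')
    refine h.trans ?_
    rw [mul_pow, ← _root_.mul_assoc]
    exact Nat.mul_le_mul (Nat.le_succ _) (Nat.pow_le_pow_left (Nat.le_succ _) _)

include Ω hA in
/-- Vanishing. -/
theorem subsingleton_HH (p j : ℕ) (hp : 1 ≤ p) (hj : 1 ≤ j) :
    Subsingleton (Coh.HH Y.left (CohB1.tensorPow (CohB1.tensorMod M M) j) p) := by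
  letI : Y.left.Over (Spec (CommRingCat.of k)) := ⟨Y.hom⟩
  haveI : IsProper (Y.left ↘ Spec (CommRingCat.of k)) := ‹IsProper Y.hom›
  haveI := AVBaseChange.isProper_bc Ω Y
  haveI := AVBaseChange.geometricallyIntegral_bc Ω Y
  haveI := Birat.smooth (AVBaseChange.bc Ω Y)
  haveI := geometricallyConnected (AVBaseChange.bc Ω Y)
  letI : (AVBaseChange.bc Ω Y).left.Over (Spec (CommRingCat.of Ω)) := ⟨(AVBaseChange.bc Ω Y).hom⟩
  have hM := (Ample.Pow.isAmple_iff.1 hA).1
  have hsq := TensorMod.Invertible.isInvertible_tensorPow (TensorMod.Invertible.isInvertible_tensorMod hM hM) j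
  obtain ⟨e⟩ := sq_pow hM j
  obtain ⟨e'⟩ := bcM_pow Ω M (2 * j)
  haveI : Subsingleton (Coh.HH (AVBaseChange.bc Ω Y).left (bcM Ω (CohB1.tensorPow (CohB1.tensorMod M M) j)) p) := by
    haveI := (S14124.result Ω (AVBaseChange.bc Ω Y) _ ((Ample.Pow.isAmple_tensorPow_iff
      (Ample.Pow.isAmple_iff.1 (isAmple_bc Ω hA)).1 (show 0 < 2 * j by omega)).1 (isAmple_bc Ω hA))).1 p hp
    exact (Curves.LES.isoK Ω ((Scheme.Modules.pullback (proj Ω Y)).mapIso e ≪≫ e') p).injective.subsingleton
  have h := finrank_HH_bc Ω hsq p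
  rw [Module.finrank_zero_of_subsingleton] at h
  haveI : Module.Finite k (Coh.HH Y.left (CohB1.tensorPow (CohB1.tensorMod M M) j) p) :=
    Snapper.Finite.cohFinite k Y.left _ (Ample.GG.isCoh_of_isInvertible hsq) p
  exact Module.finrank_zero_iff.1 h.symm

include Ω hA in
/-- The square is globally generated. -/
theorem globallyGenerated_sq : Curv2.IsGloballyGenerated (CohB1.tensorMod M M) := by
  haveI := AVBaseChange.isProper_bc Ω Y
  haveI := AVBaseChange.geometricallyIntegral_bc Ω Y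
  have hM := (Ample.Pow.isAmple_iff.1 hA).1
  have hq : Coh.IsQCoh (CohB1.tensorMod M M) :=
    TensorMod.QCohInv.isQCoh_of_isInvertible (TensorMod.Invertible.isInvertible_tensorMod hM hM)
  refine (S1646.result k Ω Y.left Y.hom _ hq).2 ?_
  obtain ⟨J, p, hp⟩ := globallyGenerated_sq_alg (isAmple_bc Ω hA)
  exact ⟨J, p ≫ (TensorMod.Pullback.pullbackTensorIso (proj Ω Y) M M).inv, epi_comp' hp (IsIso.epi_of_iso _)⟩

end Groth.Agent.H63.Tate.Polarised
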