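import Groth.Agent.H63.Tate.Chart
import Groth.Agent.H63.Tate.Polarised

/-!
# Finitely many polarised abelian varieties over a finite field

* `finite_isoClasses`: bounded dimension and Euler characteristic
-/

set_option autoImplicit false
set_option linter.style.haveILetI false

universe u

open CategoryTheory CategoryTheory.Limits MonoidalCategory CartesianMonoidalCategory MonObj AlgebraicGeometry
open Groth.Agent.Lib

noncomputable section

namespace Groth.Agent.H63.Tate.Finiteness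

/-- **Finiteness.** -/
theorem finite_isoClasses (k Ω : Type u) [Field k] [Finite k] [Field Ω] [Algebra k Ω] [IsAlgClosed Ω] (G d : ℕ) :
    ∃ (J : Type u) (_ : Finite J) (F : J → Over (Spec (CommRingCat.of k))),
      ∀ (Y : Over (Spec (CommRingCat.of k))) [GrpObj Y] [IsProper Y.hom] [GeometricallyIntegral Y.hom],
        topologicalKrullDim Y.left = G → ∀ M : Y.left.Modules, CohB1.IsAmple M →
        @Curv2.euler Ω _ (AVBaseChange.bc Ω Y).left ⟨(AVBaseChange.bc Ω Y).hom⟩ (Polarised.bcM Ω M) ≤ d →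
        ∃ i, Nonempty (Y ≅ F i) := by
  classical
  set C := d * 2 ^ G + 1
  set m := C * 2 ^ G + G + 1
  set n := C * (m + 1) ^ G
  let P := {I : Ideal (MvPolynomial (Fin n) k) | I.IsPrime ∧
    ringKrullDim (MvPolynomial (Fin n) k ⧸ I) = (G : WithBot ℕ∞) ∧ Models.Bounded G (C * (m + 1) ^ G) I}
  haveI : Finite P := (Models.finite_models (n := n) G (C * (m + 1) ^ G)).to_subtype
  let Good : P → Over (Spec (CommRingCat.of k)) → Prop := fun I Y =>
    ∃ (_ : GrpObj Y) (_ : IsProper Y.hom) (_ : GeometricallyIntegral Y.hom) (U : Y.left.Opens),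
      (U : Set Y.left).Nonempty ∧
      ∃ e : (U : Scheme.{u}) ≅ Spec (CommRingCat.of (MvPolynomial (Fin n) k ⧸ I.1)),
        e.hom ≫ Spec.map (CommRingCat.ofHom (algebraMap k (MvPolynomial (Fin n) k ⧸ I.1))) = U.ι ≫ Y.hom
  let J : Type u := ULift.{u} {I : P // ∃ Y, Good I Y}
  refine ⟨J, inferInstance, fun j => j.down.2.choose, fun Y _ _ _ hY M hA hd => ?_⟩
  letI : Y.left.Over (Spec (CommRingCat.of k)) := ⟨Y.hom⟩
  haveI : IsProper (Y.left ↘ Spec (CommRingCat.of k)) := ‹IsProper Y.hom›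
  haveI : IsIntegral Y.left := GeometricallyIntegral.isIntegral_of_subsingleton Y.hom
  have hM := (Ample.Pow.isAmple_iff.1 hA).1
  obtain ⟨e⟩ := Polarised.sq_pow hM 1
  have hA2 : CohB1.IsAmple (CohB1.tensorMod M M) :=
    (Ample.Pow.isAmple_tensorPow_iff (TensorMod.Invertible.isInvertible_tensorMod hM hM) one_pos).2
      (Ample.Pow.isAmple_of_iso e.symm ((Ample.Pow.isAmple_tensorPow_iff hM (by omega)).1 hA))
  obtain ⟨U, I, hne, hI, hdim, hb, eI, heI⟩ := Chart.exists_model (k := k) (X := Y.left) (G := G) (m := m) (n := n) (C := C)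
    hA2 (Polarised.globallyGenerated_sq Ω hA) hY (by omega) (fun j => Polarised.finrank_le Ω hY hA d hd j)
    (by omega) le_rfl (fun p j hp hj => Polarised.subsingleton_HH Ω hA p j hp hj)
  have hG : Good ⟨I, hI, hdim, hb⟩ Y := ⟨‹_›, ‹_›, ‹_›, U, hne, eI, heI⟩
  refine ⟨ULift.up ⟨⟨I, hI, hdim, hb⟩, Y, hG⟩, ?_⟩
  obtain ⟨g', p', i', U', hne', e', he'⟩ := (⟨Y, hG⟩ : ∃ Y', Good ⟨I, hI, hdim, hb⟩ Y').choose_spec
  haveI := g'; haveI := p'; haveI := i'
  exact Birat.nonempty_iso U U' hne hne' (eI ≪≫ e'.symm) (by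
    rw [Iso.trans_hom, Iso.symm_hom, Category.assoc, ← he', e'.inv_hom_id_assoc, heI]; rfl)

end Groth.Agent.H63.Tate.Finiteness
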