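import Groth.Agent.H63.GalQuotient
import Mathlib.FieldTheory.Finite.GaloisField
import Groth.Agent.H63.FrobExists
import Groth.Prelude.Def_SGA7a

/-!
# Galois automorphisms act on torsion points as powers of Frobenius

* `exists_frob_galAct`: the natural Frobenius is a Galois automorphism on points
* `exists_pow_galAct`: on points of finite schemes every automorphism is a power of it
-/

set_option autoImplicit false

universe u

open CategoryTheory CategoryTheory.Limits MonoidalCategory CartesianMonoidalCategory MonObj AlgebraicGeometry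

namespace Groth.Agent.H63.Tate.FrobGal

variable (k : Type u) [Field k] [Finite k] (Ω : Type u) [Field Ω] [Algebra k Ω] [IsAlgClosure k Ω]

/-- Raising to the power `q`. -/
noncomputable def frobΩ : Ω ≃ₐ[k] Ω :=
  letI : Fintype k := Fintype.ofFinite k
  haveI : Algebra.IsAlgebraic k Ω := IsAlgClosure.isAlgebraic
  FiniteField.frobeniusAlgEquivOfAlgebraic k Ω

theorem frobΩ_apply (x : Ω) : frobΩ k Ω x = x ^ Nat.card k := by
  letI : Fintype k := Fintype.ofFinite k
  rw [Nat.card_eq_fintype_card]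
  rfl

/-- Some endomorphism homomorphism of `A` acts on geometric points as `frobΩ`. -/
theorem exists_frob_galAct (A : Over (Spec (CommRingCat.of k))) :
    ∃ (π : A ⟶ A) (_ : π.left.base = 𝟙 _) (hle : ∀ U : A.left.Opens, U ≤ π.left ⁻¹ᵁ U),
      (∀ (U : A.left.Opens) (s : Γ(A.left, U)), (π.left.appLE U U (hle U)).hom s = s ^ Nat.card k) ∧
      (∀ a : SGA7.pt (K := k) Ω ⟶ A, SGA7.galAct (frobΩ k Ω) a = a ≫ π) ∧
      (∀ [GrpObj A], IsMonHom π) := by
  haveI : Fintype k := Fintype.ofFinite k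
  obtain ⟨p, hp⟩ := CharP.exists k
  obtain ⟨e, hpp, hcard⟩ := FiniteField.card k p
  haveI : Fact p.Prime := ⟨hpp⟩
  haveI hX : ∀ B : Over (Spec (CommRingCat.of k)), FrobSch.IsCharP B.left p :=
    fun B => FrobSch.IsCharP.of_hom B.hom p
  let π : ∀ B : Over (Spec (CommRingCat.of k)), B ⟶ B := fun B =>
    Over.homMk (FrobExists.fr p B.left e) (by rw [FrobExists.fr_comp, FrobExists.fr_spec p k hcard, Category.comp_id])
  have nat : ∀ {B C : Over (Spec (CommRingCat.of k))} (g : B ⟶ C), π B ≫ g = g ≫ π C := fun g =>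
    Over.OverMorphism.ext (FrobExists.fr_comp p g.left e)
  refine ⟨π A, FrobExists.fr_base p _ e, FrobExists.le_fr p _ e, fun U s => ?_, fun a => ?_, fun {_} => ?_⟩
  · rw [Nat.card_eq_fintype_card, hcard]
    exact FrobExists.fr_appLE p _ e U _ s
  · refine Eq.trans ?_ (nat a)
    refine Over.OverMorphism.ext ?_
    show Spec.map (CommRingCat.ofHom (frobΩ k Ω : Ω →+* Ω)) ≫ a.left = FrobExists.fr p (SGA7.pt (K := k) Ω).left e ≫ a.left
    congr 1
    haveI : FrobSch.IsCharP (Spec (CommRingCat.of Ω)) p := hX (SGA7.pt (K := k) Ω)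
    apply ext_of_isAffine
    apply CommRingCat.hom_ext
    refine RingHom.ext fun s => ?_
    have h := FrobExists.fr_appLE p (Spec (CommRingCat.of Ω)) e ⊤ (FrobExists.le_fr p _ e ⊤) s
    have h2 : (FrobExists.fr p (Spec (CommRingCat.of Ω)) e).appTop s = s ^ p ^ (e : ℕ) := by
      rw [← h]
      simp only [Scheme.Hom.appTop, Scheme.Hom.appLE]
      change _ = ((FrobExists.fr p (Spec (CommRingCat.of Ω)) e).app ⊤ ≫ (Spec (CommRingCat.of Ω)).presheaf.map (𝟙 _)).hom s
      rw [CategoryTheory.Functor.map_id, Category.comp_id]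
      rfl
    refine Eq.trans ?_ h2.symm
    apply (Scheme.ΓSpecIso (CommRingCat.of Ω)).commRingCatIsoToRingEquiv.injective
    rw [map_pow]
    refine (ConcreteCategory.congr_hom (Scheme.ΓSpecIso_naturality (CommRingCat.ofHom (frobΩ k Ω : Ω →+* Ω))) s).trans ?_
    exact (frobΩ_apply k Ω _).trans (by rw [Nat.card_eq_fintype_card, hcard]; rfl)
  · refine ⟨?_, ?_⟩
    · have h1 : π (𝟙_ (Over (Spec (CommRingCat.of k)))) = 𝟙 _ := toUnit_unique _ _
      rw [← nat η[A], h1, Category.id_comp]
    · have h2 : π (A ⊗ A) = π A ⊗ₘ π A := by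
        apply CartesianMonoidalCategory.hom_ext
        · rw [tensorHom_fst, nat]
        · rw [tensorHom_snd, nat]
      rw [← h2]
      exact (nat μ[A]).symm

/-- On a point of a finite scheme, every automorphism is a power of Frobenius. -/
theorem exists_pow_galAct {X : Over (Spec (CommRingCat.of k))} [IsFinite X.hom]
    (a : SGA7.pt (K := k) Ω ⟶ X) (τ : Ω ≃ₐ[k] Ω) :
    ∃ j : ℕ, SGA7.galAct τ a = (fun b => SGA7.galAct (frobΩ k Ω) b)^[j] a := by
  haveI : Fintype k := Fintype.ofFinite k
  set x := a.left (IsLocalRing.closedPoint Ω)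
  obtain ⟨φ, hφ⟩ := GalOrbit.factor a.left (rfl : _ = x)
  obtain ⟨θ, hθ⟩ := Spec.map_surjective (X.left.fromSpecResidueField x ≫ X.hom)
  have hθφ : θ ≫ φ = CommRingCat.ofHom (algebraMap k Ω) := Spec.map_injective (by
    rw [Spec.map_comp, hθ, ← Category.assoc, hφ]; exact Over.w a)
  letI : Algebra k (X.left.residueField x) := θ.hom.toAlgebra
  haveI : Finite X.left := Set.finite_univ_iff.1 ((IsFinite.finite_preimage_singleton X.hom (IsLocalRing.closedPoint k)).subset
    fun z _ => Subsingleton.elim (α := PrimeSpectrum k) _ _)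
  haveI : JacobsonSpace X.left := LocallyOfFiniteType.jacobsonSpace X.hom
  haveI : DiscreteTopology X.left := inferInstance
  haveI : Module.Finite k (X.left.residueField x) := by
    haveI : IsClosedImmersion (X.left.fromSpecResidueField x) :=
      isClosed_singleton_iff_isClosedImmersion.1 (isClosed_discrete _)
    haveI : IsFinite (Spec.map θ) := by rw [hθ]; infer_instance
    exact (IsFinite.SpecMap_iff θ).1 ‹_›
  let f : X.left.residueField x →ₐ[k] Ω := { φ.hom with commutes' := fun c => ConcreteCategory.congr_hom hθφ c }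
  haveI : Module.Finite k f.fieldRange := Module.Finite.equiv (AlgEquiv.ofInjectiveField f).toLinearEquiv
  haveI : Finite f.fieldRange := Module.finite_of_finite k
  haveI : Normal k f.fieldRange := inferInstance
  obtain ⟨n, hn⟩ := (FiniteField.bijective_frobeniusAlgEquivOfAlgebraic_pow k f.fieldRange).2 (τ.restrictNormal f.fieldRange)
  refine ⟨n.1, ?_⟩
  have key : ∀ c, τ (f c) = (f c) ^ (Fintype.card k ^ n.1) := fun c => by
    have h := τ.restrictNormal_commutes f.fieldRange ((AlgEquiv.ofInjectiveField f) c)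
    rw [← hn] at h
    refine h.symm.trans ?_
    rw [AlgEquiv.coe_pow, FiniteField.coe_frobeniusAlgEquivOfAlgebraic_iterate]
    rfl
  have hpow : ∀ (m : ℕ) (b : Spec (CommRingCat.of Ω) ⟶ X.left) (hb : b ≫ X.hom = Spec.map (CommRingCat.ofHom (algebraMap k Ω))),
      ((fun b => SGA7.galAct (frobΩ k Ω) b)^[m] (Over.homMk b hb)).left =
        Spec.map (CommRingCat.ofHom ((frobΩ k Ω ^ m : Ω ≃ₐ[k] Ω) : Ω →+* Ω)) ≫ b := by
    intro m
    induction m with
    | zero =>
      intro b hb
      show b = _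
      rw [show CommRingCat.ofHom ((frobΩ k Ω ^ 0 : Ω ≃ₐ[k] Ω) : Ω →+* Ω) = 𝟙 (CommRingCat.of Ω) from rfl, Spec.map_id,
        Category.id_comp]
    | succ m ih =>
      intro b hb
      rw [Function.iterate_succ_apply']
      show Spec.map (CommRingCat.ofHom (frobΩ k Ω : Ω →+* Ω)) ≫ ((fun b => SGA7.galAct (frobΩ k Ω) b)^[m] (Over.homMk b hb)).left = _
      rw [ih b hb, ← Spec.map_comp_assoc, ← CommRingCat.ofHom_comp, pow_succ']
      rfl
  refine Over.OverMorphism.ext ?_
  refine Eq.trans ?_ (hpow n.1 a.left (Over.w a)).symm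
  show Spec.map (CommRingCat.ofHom (τ : Ω →+* Ω)) ≫ a.left = _
  rw [← hφ, ← Spec.map_comp_assoc, ← Spec.map_comp_assoc]
  congr 2
  ext c
  refine (key c).trans ?_
  show _ = (frobΩ k Ω ^ n.1 : Ω ≃ₐ[k] Ω) (f c)
  rw [AlgEquiv.coe_pow, frobΩ, FiniteField.coe_frobeniusAlgEquivOfAlgebraic_iterate]
  simp only [Fintype.card_eq_nat_card]

end Groth.Agent.H63.Tate.FrobGal
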