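import Groth.Agent.H63.GalRange
import Groth.Agent.H4.Chow.Hom

/-!
# From bounded quotients of `Q × Q` to endomorphisms with prescribed image

* `Bd`: the boundedness condition attached to a Galois-stable lattice
* `exists_range`: under it the lattice is an image of `Hom(Q × Q, Q)` up to a power of `l`
-/

set_option autoImplicit false

universe u

open CategoryTheory CategoryTheory.Limits MonoidalCategory CartesianMonoidalCategory AlgebraicGeometry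
open scoped MonObj GrpObj TensorProduct
open Groth.Agent.Lib

namespace Groth.Agent.H63.Tate.Limit

variable {k : Type u} [Field k] {Ω : Type u} [Field Ω] [Algebra k Ω] {l : ℕ} [Fact l.Prime]
  {Q : Over (Spec (CommRingCat.of k))} [GrpObj Q] [IsCommMonObj Q]

/-- For every `n` some finite Galois-stable group `H ⊆ (Q × Q)[l^n]`, lying over `S mod l^n` through
`(a, b) ↦ a - cb` and containing its twisted graphs, has quotient in a fixed finite list. -/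
def Bd (Ω : Type u) [Field Ω] [Algebra k Ω] {Q : Over (Spec (CommRingCat.of k))} [GrpObj Q] [IsCommMonObj Q]
    (l : ℕ) [Fact l.Prime] (S : Submodule ℤ_[l] (AbDual.TateMod Q l (SGA7.pt (K := k) Ω))) : Prop :=
  ∃ (J : Type u) (_ : Finite J) (F : J → Over (Spec (CommRingCat.of k))), ∀ n : ℕ, 0 < n →
    ∃ (c : ℕ) (H : Subgroup (SGA7.pt (K := k) Ω ⟶ Q ⊗ Q)), l ^ n ∣ c ^ 2 + 1 ∧
      (∀ a ∈ H, a ^ (l ^ n) = 1) ∧ (∀ (τ : Ω ≃ₐ[k] Ω), ∀ a ∈ H, SGA7.galAct τ a ∈ H) ∧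
      (∀ a ∈ H, ∃ s ∈ S, (AbDual.TateMod.component Q l (SGA7.pt (K := k) Ω) n s).toMul =
        (a ≫ fst Q Q) * ((a ≫ snd Q Q) ^ c)⁻¹) ∧
      (∀ s ∈ S, lift (AbDual.TateMod.component Q l (SGA7.pt (K := k) Ω) n s).toMul
        ((AbDual.TateMod.component Q l (SGA7.pt (K := k) Ω) n s).toMul ^ c) ∈ H) ∧
      ∀ (Y : Over (Spec (CommRingCat.of k))) [GrpObj Y] [IsProper Y.hom] [GeometricallyIntegral Y.hom]
        (g : Q ⊗ Q ⟶ Y) [IsMonHom g] (w : Y ⟶ Q ⊗ Q) [IsMonHom w], IsFinite g.left → Surjective g.left →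
        g ≫ w = (𝟙 (Q ⊗ Q)) ^ (l ^ n) → w ≫ g = (𝟙 Y) ^ (l ^ n) →
        (∀ a : SGA7.pt (K := k) Ω ⟶ Q ⊗ Q, a ≫ g = 1 ↔ a ∈ H) → ∃ i, Nonempty (Y ≅ F i)

/-- A cluster point of linear maps with images approaching `S`. -/
theorem exists_limit_range {M N : Type*} [AddCommGroup M] [Module ℤ_[l] M] [Module.Free ℤ_[l] M]
    [Module.Finite ℤ_[l] M] [AddCommGroup N] [Module ℤ_[l] N] [Module.Free ℤ_[l] N] [Module.Finite ℤ_[l] N]
    (E : Submodule ℤ_[l] (M →ₗ[ℤ_[l]] N)) (S : Submodule ℤ_[l] N) (v : ℕ → (M →ₗ[ℤ_[l]] N))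
    (n : ℕ → ℕ) (hn : ∀ j, j ≤ n j) (r : ℕ) (hv : ∀ j, v j ∈ E)
    (hA : ∀ j x, ∃ t ∈ S, ∃ y, v j x = t + (l : ℤ_[l]) ^ n j • y)
    (hB : ∀ j, ∀ s ∈ S, ∃ x, v j x = (l : ℤ_[l]) ^ r • s) :
    ∃ u ∈ E, (∀ x, u x ∈ S) ∧ ∀ s ∈ S, ∃ x, u x = (l : ℤ_[l]) ^ r • s := by
  obtain ⟨u, hu, hlim⟩ := PadicLimit.exists_limit_mem E v hv
  refine ⟨u, hu, fun x => ?_, fun s hs => ?_⟩
  · refine PadicLimit.mem_of_forall_exists_pow S fun N => ?_
    obtain ⟨j, hj, e, he⟩ := hlim N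
    obtain ⟨t, ht, y, hy⟩ := hA j x
    refine ⟨t, ht, (l : ℤ_[l]) ^ (n j - N) • y - e x, ?_⟩
    rw [he, LinearMap.add_apply, LinearMap.smul_apply] at hy
    rw [smul_sub, smul_smul, ← pow_add, Nat.add_sub_cancel' (hj.trans (hn j)), ← add_sub_assoc, ← hy, add_sub_cancel_right]
  · refine LinearMap.mem_range.1 (PadicLimit.mem_of_forall_exists_pow (LinearMap.range u) fun N => ?_)
    obtain ⟨j, hj, e, he⟩ := hlim N
    obtain ⟨x, hx⟩ := hB j s hs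
    refine ⟨u x, LinearMap.mem_range_self _ x, e x, ?_⟩
    rw [← hx, he, LinearMap.add_apply, LinearMap.smul_apply]

variable [IsAlgClosure k Ω] [IsProper Q.hom] [GeometricallyIntegral Q.hom]
  (S : Submodule ℤ_[l] (AbDual.TateMod Q l (SGA7.pt (K := k) Ω)))

/-- The quotient at level `n`. -/
theorem exists_level (hl : (l : k) ≠ 0) (hl2 : l ≠ 2) (n c : ℕ) (hn : 0 < n) (hc : l ^ n ∣ c ^ 2 + 1)
    (H : Subgroup (SGA7.pt (K := k) Ω ⟶ Q ⊗ Q)) (hH : ∀ a ∈ H, a ^ (l ^ n) = 1)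
    (hgal : ∀ (τ : Ω ≃ₐ[k] Ω), ∀ a ∈ H, SGA7.galAct τ a ∈ H)
    (hup : ∀ a ∈ H, ∃ s ∈ S, (AbDual.TateMod.component Q l (SGA7.pt (K := k) Ω) n s).toMul =
        (a ≫ fst Q Q) * ((a ≫ snd Q Q) ^ c)⁻¹)
    (hdn : ∀ s ∈ S, lift (AbDual.TateMod.component Q l (SGA7.pt (K := k) Ω) n s).toMul
        ((AbDual.TateMod.component Q l (SGA7.pt (K := k) Ω) n s).toMul ^ c) ∈ H) :
    ∃ (Y : Over (Spec (CommRingCat.of k))) (_ : GrpObj Y) (_ : IsCommMonObj Y) (_ : IsProper Y.hom)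
      (_ : GeometricallyIntegral Y.hom) (g : Q ⊗ Q ⟶ Y) (_ : IsMonHom g) (w : Y ⟶ Q ⊗ Q) (_ : IsMonHom w)
      (p : Q ⊗ Q ⟶ Q) (_ : IsMonHom p),
      IsFinite g.left ∧ Surjective g.left ∧ (∀ a : SGA7.pt (K := k) Ω ⟶ Q ⊗ Q, a ≫ g = 1 ↔ a ∈ H) ∧
      g ≫ w = (𝟙 (Q ⊗ Q)) ^ (l ^ n) ∧ w ≫ g = (𝟙 Y) ^ (l ^ n) ∧
      (∀ y, ∃ s ∈ S, ∃ x, AbDual.tateMapₗ (l := l) (T := SGA7.pt (K := k) Ω) (w ≫ p) y = s + (l : ℤ_[l]) ^ n • x) ∧
      (∀ s ∈ S, ∃ y, AbDual.tateMapₗ (l := l) (T := SGA7.pt (K := k) Ω) (w ≫ p) y = s) := by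
  haveI := H4.Chow.isProper_prod Q Q
  haveI := H4.Chow.geometricallyIntegral_prod Q Q
  obtain ⟨Y, gY, g, w, hYp, hYg, hg, hgf, hgs, hw, hgw, hwg, hker⟩ :=
    GalQuotient.exists_quotient Ω (n := l ^ n) (by rw [Nat.cast_pow]; exact pow_ne_zero _ hl) H hH hgal
  haveI := hYp; haveI := hYg; haveI := hg; haveI := hgf; haveI := hgs; haveI := hw
  haveI := isCommMonObj_of_isProper_of_geometricallyIntegral Y
  haveI : IsMonHom ((𝟙 Q : Q ⟶ Q) ^ c) := H4.NPowEtale.isMonHom_pow_id Q c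
  let p₁ : Q ⊗ Q ⟶ Q := fst Q Q
  let p₂ : Q ⊗ Q ⟶ Q := snd Q Q ≫ (𝟙 Q) ^ c
  haveI : IsMonHom p₁ := inferInstanceAs (IsMonHom (fst Q Q))
  haveI : IsMonHom (snd Q Q) := inferInstance
  haveI : IsMonHom p₂ := inferInstanceAs (IsMonHom (snd Q Q ≫ (𝟙 Q) ^ c))
  let p : Q ⊗ Q ⟶ Q := p₁ * p₂⁻¹
  haveI : IsMonHom p₂⁻¹ := H4.AVHom.isMonHom_of_pointed _ (by rw [GrpObj.comp_inv, IsMonHom.one_hom p₂, MonObj.one_eq_one, inv_one])
  haveI : IsMonHom p := by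
    refine H4.AVHom.isMonHom_of_pointed _ ?_
    show η[Q ⊗ Q] ≫ (p₁ * p₂⁻¹) = _
    rw [MonObj.comp_mul, IsMonHom.one_hom p₁, IsMonHom.one_hom p₂⁻¹, MonObj.one_eq_one, _root_.mul_one]
  have hp : ∀ {T : Over (Spec (CommRingCat.of k))} (a : T ⟶ Q ⊗ Q), a ≫ p = (a ≫ fst Q Q) * ((a ≫ snd Q Q) ^ c)⁻¹ := fun a => by
    show a ≫ (p₁ * p₂⁻¹) = _
    rw [MonObj.comp_mul, GrpObj.comp_inv, ← Category.assoc a (snd Q Q), MonObj.comp_pow, Category.comp_id]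
  refine ⟨Y, gY, inferInstance, hYp, hYg, g, hg, w, hw, p, inferInstance, hgf, hgs, hker, hgw, hwg, fun y => ?_, fun s hs => ?_⟩
  · haveI : IsAlgClosed Ω := IsAlgClosure.isAlgClosed k
    obtain ⟨a, ha⟩ := H4.AVPoints.exists_lift (Spec.map (CommRingCat.ofHom (algebraMap k Ω))) g
      ((y : ℕ → Additive (SGA7.pt (K := k) Ω ⟶ Y)) n).toMul
    have h1 : ((y : ℕ → Additive (SGA7.pt (K := k) Ω ⟶ Y)) n).toMul ≫ w = a ^ (l ^ n) := by
      rw [← ha, Category.assoc, hgw, MonObj.comp_pow, Category.comp_id]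
    have h2 : a ^ (l ^ n) ∈ H := (hker _).1 (by
      rw [MonObj.pow_comp, ha]
      exact congrArg Additive.toMul (y.torsion n))
    obtain ⟨s, hs, hsn⟩ := hup _ h2
    obtain ⟨x, hx⟩ := GalRange.exists_smul_eq_of_component (n := n)
      (x := AbDual.tateMapₗ (l := l) (T := SGA7.pt (K := k) Ω) (w ≫ p) y - s) (by
        show Additive.ofMul (((y : ℕ → Additive (SGA7.pt (K := k) Ω ⟶ Y)) n).toMul ≫ w ≫ p) -
          AbDual.TateMod.component Q l (SGA7.pt (K := k) Ω) n s = 0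
        rw [← Category.assoc, h1, hp, ← hsn, ofMul_toMul, sub_self])
    exact ⟨s, hs, x, eq_add_of_sub_eq' hx⟩
  · have hl' : IsUnit (1 - (c : ℤ_[l]) * c) := by
      rw [show (1 - (c : ℤ_[l]) * c) = 2 - ((c ^ 2 + 1 : ℕ) : ℤ_[l]) by push_cast; ring]
      rw [← IsLocalRing.notMem_maximalIdeal]
      intro hmem
      have h2 : ((c ^ 2 + 1 : ℕ) : ℤ_[l]) ∈ IsLocalRing.maximalIdeal ℤ_[l] := by
        obtain ⟨e, he⟩ := (dvd_pow_self l hn.ne').trans hc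
        rw [he, PadicInt.maximalIdeal_eq_span_p, Nat.cast_mul]
        exact Ideal.mul_mem_right _ _ (Ideal.mem_span_singleton_self _)
      have h3 : ((2 : ℕ) : ℤ_[l]) ∈ IsLocalRing.maximalIdeal ℤ_[l] := by
        have := Ideal.add_mem _ hmem h2
        simpa using this
      rw [PadicInt.maximalIdeal_eq_span_p, Ideal.mem_span_singleton, ← Int.cast_natCast 2,
        ← pow_one (l : ℤ_[l]), PadicInt.pow_p_dvd_int_iff] at h3
      have h4 : l ∣ 2 := by simpa using Int.natCast_dvd_natCast.1 (by simpa using h3)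
      exact hl2 ((Nat.prime_dvd_prime_iff_eq Fact.out Nat.prime_two).1 h4)
    obtain ⟨e, he⟩ := hl'
    let a := (↑e⁻¹ : ℤ_[l]) • s
    have ha : a ∈ S := S.smul_mem _ hs
    let i₁ : Q ⟶ Q ⊗ Q := lift (𝟙 Q) 1
    let i₂ : Q ⟶ Q ⊗ Q := lift 1 (𝟙 Q)
    haveI : IsMonHom i₁ := inferInstanceAs (IsMonHom (lift (𝟙 Q) (1 : Q ⟶ Q)))
    haveI : IsMonHom i₂ := inferInstanceAs (IsMonHom (lift (1 : Q ⟶ Q) (𝟙 Q)))
    let z := AbDual.tateMapₗ (l := l) (T := SGA7.pt (K := k) Ω) i₁ a +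
      c • AbDual.tateMapₗ (l := l) (T := SGA7.pt (K := k) Ω) i₂ a
    have hz : ∀ m, (AbDual.TateMod.component (Q ⊗ Q) l (SGA7.pt (K := k) Ω) m z).toMul =
        lift (AbDual.TateMod.component Q l (SGA7.pt (K := k) Ω) m a).toMul
          ((AbDual.TateMod.component Q l (SGA7.pt (K := k) Ω) m a).toMul ^ c) := by
      intro m
      rw [map_add, map_nsmul]
      set x := (AbDual.TateMod.component Q l (SGA7.pt (K := k) Ω) m a).toMul
      show (x ≫ i₁) * (x ≫ i₂) ^ c = _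
      apply hom_ext
      · rw [MonObj.mul_comp, MonObj.pow_comp, Category.assoc, Category.assoc, lift_fst, lift_fst, lift_fst,
          Category.comp_id, MonObj.comp_one, one_pow, _root_.mul_one]
      · rw [MonObj.mul_comp, MonObj.pow_comp, Category.assoc, Category.assoc, lift_snd, lift_snd, lift_snd,
          MonObj.comp_one, Category.comp_id, _root_.one_mul]
    have hzn : (AbDual.TateMod.component (Q ⊗ Q) l (SGA7.pt (K := k) Ω) n z).toMul ∈ H := hz n ▸ hdn a ha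
    refine ⟨⟨fun m => Additive.ofMul (((z : ℕ → Additive (SGA7.pt (K := k) Ω ⟶ Q ⊗ Q)) (m + n)).toMul ≫ g),
      fun m => ?_, fun m => ?_⟩, AbDual.TateMod.ext fun m => ?_⟩
    · show (l ^ m) • Additive.ofMul (((z : ℕ → Additive (SGA7.pt (K := k) Ω ⟶ Q ⊗ Q)) (m + n)).toMul ≫ g) = 0
      rw [← AbDual.nsmul_comp, Nat.add_comm m n, GalRange.component_add]
      exact congrArg Additive.ofMul ((hker _).2 hzn)
    · show l • Additive.ofMul (((z : ℕ → Additive (SGA7.pt (K := k) Ω ⟶ Q ⊗ Q)) (m + 1 + n)).toMul ≫ g) = _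
      rw [← AbDual.nsmul_comp, show m + 1 + n = (m + n) + 1 by omega, z.compat]
    · show Additive.ofMul ((((z : ℕ → Additive (SGA7.pt (K := k) Ω ⟶ Q ⊗ Q)) (m + n)).toMul ≫ g) ≫ w ≫ p) = _
      rw [Category.assoc, ← Category.assoc g w, hgw, ← Category.assoc, MonObj.comp_pow, Category.comp_id]
      have hcomp : ((z : ℕ → Additive (SGA7.pt (K := k) Ω ⟶ Q ⊗ Q)) (m + n)).toMul ^ (l ^ n) =
          (AbDual.TateMod.component (Q ⊗ Q) l (SGA7.pt (K := k) Ω) m z).toMul :=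
        congrArg Additive.toMul (GalRange.component_add n m z)
      rw [hcomp, hp, hz, lift_fst, lift_snd]
      have hs' : s = a - c • c • a := by
        rw [← Nat.cast_smul_eq_nsmul ℤ_[l], ← Nat.cast_smul_eq_nsmul ℤ_[l] c a, smul_smul]
        show s = (↑e⁻¹ : ℤ_[l]) • s - ((c : ℤ_[l]) * c) • (↑e⁻¹ : ℤ_[l]) • s
        rw [show ∀ b : AbDual.TateMod Q l (SGA7.pt (K := k) Ω), b - ((c : ℤ_[l]) * c) • b = (1 - (c : ℤ_[l]) * c) • b from fun b => by rw [sub_smul, one_smul], ← he,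
          smul_smul, Units.mul_inv, one_smul]
      rw [show (s : ℕ → Additive (SGA7.pt (K := k) Ω ⟶ Q)) m = AbDual.TateMod.component Q l (SGA7.pt (K := k) Ω) m s from rfl,
        hs', map_sub, map_nsmul, map_nsmul, ← pow_mul, smul_smul, sub_eq_add_neg]
      rfl

variable {S}

/-- `S` is an image of `Hom(Q × Q, Q)` up to a power of `l`. -/
theorem exists_range (hl : (l : k) ≠ 0) (hl2 : l ≠ 2) (hBd : Bd Ω l S)
    [Module.Free ℤ_[l] (AbDual.TateMod Q l (SGA7.pt (K := k) Ω))]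
    [Module.Finite ℤ_[l] (AbDual.TateMod Q l (SGA7.pt (K := k) Ω))]
    [Module.Free ℤ_[l] (AbDual.TateMod (Q ⊗ Q) l (SGA7.pt (K := k) Ω))]
    [Module.Finite ℤ_[l] (AbDual.TateMod (Q ⊗ Q) l (SGA7.pt (K := k) Ω))] :
    ∃ (u : AbDual.TateMod (Q ⊗ Q) l (SGA7.pt (K := k) Ω) →ₗ[ℤ_[l]] AbDual.TateMod Q l (SGA7.pt (K := k) Ω)) (r : ℕ),
      u ∈ Submodule.span ℤ_[l] {ψ | ∃ (f : Q ⊗ Q ⟶ Q) (_ : IsMonHom f),
        ψ = AbDual.tateMapₗ (l := l) (T := SGA7.pt (K := k) Ω) f} ∧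
      (∀ x, u x ∈ S) ∧ ∀ s ∈ S, ∃ x, u x = (l : ℤ_[l]) ^ r • s := by
  haveI := H4.Chow.isProper_prod Q Q
  haveI := H4.Chow.geometricallyIntegral_prod Q Q
  obtain ⟨J, hJ, F, hF⟩ := hBd
  have hF' := fun n : ℕ => hF (n + 1) n.succ_pos
  choose c H hc hH hgal hup hdn hiso using hF'
  choose Y gY cY pY iY g hg w hw p hp hgf hgs hker hgw hwg hupY hdnY using fun n =>
    exists_level S hl hl2 (n + 1) (c n) n.succ_pos (hc n) (H n) (hH n) (hgal n) (hup n) (hdn n)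
  have hidx : ∀ n, ∃ i, Nonempty (Y n ≅ F i) := fun n =>
    @hiso n (Y n) (gY n) (pY n) (iY n) (g n) (hg n) (w n) (hw n) (hgf n) (hgs n) (hgw n) (hwg n) (hker n)
  choose i hi using hidx
  obtain ⟨i₀, hinf⟩ := Finite.exists_infinite_fiber i
  have hinf' : (i ⁻¹' {i₀}).Infinite := Set.infinite_coe_iff.1 hinf
  obtain ⟨n₀, hn₀⟩ := hinf'.nonempty
  have key : ∀ j : ℕ, ∃ n, j ≤ n + 1 ∧ ∃ (f : Q ⊗ Q ⟶ Q) (_ : IsMonHom f),
      (∀ x, ∃ s ∈ S, ∃ y, AbDual.tateMapₗ (l := l) (T := SGA7.pt (K := k) Ω) f x = s + (l : ℤ_[l]) ^ (n + 1) • y) ∧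
      (∀ s ∈ S, ∃ x, AbDual.tateMapₗ (l := l) (T := SGA7.pt (K := k) Ω) f x = (l : ℤ_[l]) ^ (n₀ + 1) • s) := by
    intro j
    obtain ⟨n, hn, hjn⟩ := hinf'.exists_gt j
    obtain ⟨e₀⟩ := hi n₀
    obtain ⟨e⟩ := hi n
    haveI := pY n₀; haveI := pY n; haveI := iY n₀; haveI := iY n
    obtain ⟨h, hh, hhi⟩ := GalRange.exists_isMonHom_iso
      (e₀ ≪≫ eqToIso (congrArg F ((show i n₀ = i₀ from hn₀).trans (show i n = i₀ from hn).symm)) ≪≫ e.symm)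
    haveI := hh; haveI := hhi; haveI := hg n₀; haveI := hw n; haveI := hw n₀; haveI := hg n; haveI := hp n
    haveI : IsMonHom (inv h) := H4.AVHom.isMonHom_of_pointed _ (by
      rw [← cancel_mono h, Category.assoc, IsIso.inv_hom_id, Category.comp_id]
      exact (IsMonHom.one_hom h).symm)
    refine ⟨n, by omega, g n₀ ≫ h ≫ w n ≫ p n, inferInstance, fun x => ?_, fun s hs => ?_⟩
    · rw [GalRange.tateMap_comp, GalRange.tateMap_comp]
      exact hupY n _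
    · obtain ⟨y, hy⟩ := hdnY n s hs
      refine ⟨AbDual.tateMapₗ (w n₀) (AbDual.tateMapₗ (inv h) y), ?_⟩
      rw [GalRange.tateMap_comp, GalRange.tateMap_comp, ← GalRange.tateMap_comp (w n₀) (g n₀),
        GalRange.tateMap_pow (n₀ + 1) _ (hwg n₀), map_smul, map_smul, ← GalRange.tateMap_comp (inv h) h]
      have e1 : AbDual.tateMapₗ (l := l) (T := SGA7.pt (K := k) Ω) (inv h ≫ h) y = y :=
        AbDual.TateMod.ext fun m => by
          show Additive.ofMul (_ ≫ (inv h ≫ h)) = _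
          rw [IsIso.inv_hom_id, Category.comp_id]
          rfl
      rw [e1, hy]
  choose n hn f hf hA hB using key
  set E := Submodule.span ℤ_[l] {ψ | ∃ (f : Q ⊗ Q ⟶ Q) (_ : IsMonHom f),
    ψ = AbDual.tateMapₗ (l := l) (T := SGA7.pt (K := k) Ω) f}
  obtain ⟨u, hu, h1, h2⟩ := exists_limit_range E S
    (fun j => haveI := hf j; AbDual.tateMapₗ (l := l) (T := SGA7.pt (K := k) Ω) (f j)) (fun j => n j + 1) hn (n₀ + 1)
    (fun j => Submodule.subset_span ⟨f j, hf j, rfl⟩) hA hB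
  exact ⟨u, n₀ + 1, hu, h1, h2⟩

end Groth.Agent.H63.Tate.Limit
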