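import Groth.Agent.H63.Tate.Bilinear
import Groth.Agent.H63.AVBaseChange
import Groth.Agent.H63.AVTorsPoints
import Groth.Agent.H63.GalOrbit
import Groth.Agent.H4.KerDual.Frame
import Groth.Agent.H4.IsogenyFactor
import Groth.Agent.H4.KernelSquare
import Groth.Agent.H4.NPowEtale
import Groth.Agent.H3.IsogenyDescent
import Groth.Agent.Lib.AlgSpMor.EtaleMono

/-!
# The orthogonal of a finite group of torsion points

* `cl`: the class on `Q' ⊗ T` attached to a point of `Q`
* `exists_perp`: a Galois stable orthogonal subgroup of complementary order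
* `cl_eq_one`: the class is trivial on a reduced finite scheme of orthogonal points
-/

set_option autoImplicit false
set_option linter.style.haveILetI false
set_option synthInstance.maxHeartbeats 200000

universe u

open CategoryTheory CategoryTheory.Limits MonoidalCategory CartesianMonoidalCategory AlgebraicGeometry
open scoped MonObj GrpObj
open Groth.Agent.H3 Groth.Agent.Lib Groth.Agent.H4

noncomputable section

namespace Groth.Agent.H63.Tate.Perp

local instance (Y : Scheme.{u}) : PicGrp.Law Y := Groth.Agent.Lib.TensorMod.Invertible.law Y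

/-- A global function on a reduced scheme vanishing at field-valued points through every point is zero. -/
theorem eq_zero_of_points {X : Scheme.{u}} [IsReduced X] (c : Γ(X, ⊤))
    (h : ∀ w : X, ∃ (F : Scheme.{u}) (p : F ⟶ X) (z : F), p z = w ∧ p.appTop.hom c = 0) : c = 0 := by
  refine (basicOpen_eq_bot_iff c).1 (le_bot_iff.1 fun w hw => ?_)
  obtain ⟨F, p, z, hz, h0⟩ := h w
  have h1 : z ∈ p ⁻¹ᵁ X.basicOpen c := by
    show p z ∈ X.basicOpen c
    rw [hz]; exact hw
  rw [Scheme.preimage_basicOpen, show p.app ⊤ c = 0 from h0, Scheme.basicOpen_zero] at h1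
  exact h1.elim

variable {k : Type u} [Field k] (Ω : Type u) [Field Ω] [Algebra k Ω]
  {Q Q' N : Over (Spec (CommRingCat.of k))} [GrpObj Q] [IsProper Q.hom] [GeometricallyIntegral Q.hom]

/-- The class attached to a point. -/
def cl (ℓ : PicLoc.PicSet Q.left) (v : Q' ⟶ Q) {T : Over (Spec (CommRingCat.of k))} (x : T ⟶ Q) :
    PicLoc.PicSet (Q' ⊗ T).left :=
  Bilinear.B ℓ (fst Q' T ≫ v) (snd Q' T ≫ x)

variable (ℓ : PicLoc.PicSet Q.left) (v : Q' ⟶ Q) {T T' : Over (Spec (CommRingCat.of k))}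

theorem cl_natural (g : T' ⟶ T) (x : T ⟶ Q) : PicCalc.ph (Q' ◁ g) (cl ℓ v x) = cl ℓ v (g ≫ x) := by
  rw [cl, cl, Bilinear.natural, ← Category.assoc, ← Category.assoc, whiskerLeft_fst, whiskerLeft_snd,
    Category.assoc]

theorem cl_mul [IsCommMonObj Q] (x y : T ⟶ Q) : cl ℓ v (x * y) = cl ℓ v x * cl ℓ v y := by
  rw [cl, cl, cl, MonObj.comp_mul, Bilinear.comm, Bilinear.mul_left, Bilinear.comm, Bilinear.comm ℓ (snd Q' T ≫ y)]

theorem cl_one [IsCommMonObj Q] : cl ℓ v (1 : T ⟶ Q) = 1 := by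
  rw [cl, MonObj.comp_one, Bilinear.comm, Bilinear.one_left]

theorem killed [IsCommMonObj Q] {n : ℕ} {q : Q ⟶ Q'} (hqv : q ≫ v = (𝟙 Q) ^ n) (x : T ⟶ Q) (hx : x ^ n = 1) :
    KerDual.Killed q (cl ℓ v x) := by
  show PicCalc.ph (q ▷ T) (Bilinear.B ℓ _ _) = 1
  rw [Bilinear.natural, ← Category.assoc, whiskerRight_fst, ← Category.assoc, whiskerRight_snd, Category.assoc, hqv,
    MonObj.comp_pow, Category.comp_id, Bilinear.pow_left, Bilinear.comm, ← Bilinear.pow_left, ← MonObj.comp_pow, hx,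
    MonObj.comp_one, Bilinear.one_left]

variable [GrpObj Q'] [IsProper Q'.hom] [GeometricallyIntegral Q'.hom] [GrpObj N] [LocallyOfFiniteType N.hom]
  {q : Q ⟶ Q'} [IsMonHom q] {i : N ⟶ Q} [IsMonHom i] [Flat q.left] [Surjective q.left] [QuasiCompact q.left]

/-- Killed classes are determined by their characters at points. -/
theorem eq_of_points
    (hif : ∀ {U : Over (Spec (CommRingCat.of k))} (w : U ⟶ N) (x : U ⟶ Q), (x * (w ≫ i)) ≫ q = x ≫ q)
    (hker : ∀ {U : Over (Spec (CommRingCat.of k))} (x x' : U ⟶ Q), x ≫ q = x' ≫ q →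
      ∃ y : U ⟶ N, x * (y ≫ i) = x')
    [IsReduced (N ⊗ T).left] {b b' : PicLoc.PicSet (Q' ⊗ T).left}
    (hb : KerDual.Killed q b) (hb' : KerDual.Killed q b')
    (h : ∀ w : (N ⊗ T).left, ∃ (p : SGA7.pt (K := k) Ω ⟶ N ⊗ T) (z : (SGA7.pt (K := k) Ω).left), p.left z = w ∧
      ∀ c c', KerDual.CharOf q i (PicCalc.ph (Q' ◁ (p ≫ snd N T)) b) (p ≫ fst N T) c →
        KerDual.CharOf q i (PicCalc.ph (Q' ◁ (p ≫ snd N T)) b') (p ≫ fst N T) c' → c = c') :
    b = b' := by
  obtain ⟨c₀, -, hc₀⟩ := KerDual.exists_charOf hif (hb.pull (snd N T)) (fst N T)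
  obtain ⟨c₀', -, hc₀'⟩ := KerDual.exists_charOf hif (hb'.pull (snd N T)) (fst N T)
  have e0 : c₀ = c₀' := sub_eq_zero.1 (eq_zero_of_points _ fun w => by
    obtain ⟨p, z, hz, hp⟩ := h w
    refine ⟨_, p.left, z, hz, ?_⟩
    have h1 := hc₀.natural p
    have h2 := hc₀'.natural p
    rw [← PicCalc.ph_comp, ← MonoidalCategory.whiskerLeft_comp] at h1 h2
    rw [map_sub, sub_eq_zero]
    exact hp _ _ h1 h2)
  subst e0
  refine KerDual.eq_of_charOf hif hker hb hb' fun {W} g w c c' hc hc' => ?_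
  have h1 := hc₀.natural (lift w g)
  have h2 := hc₀'.natural (lift w g)
  rw [← PicCalc.ph_comp, ← MonoidalCategory.whiskerLeft_comp, lift_snd, lift_fst] at h1 h2
  exact (hc.unique h1).trans (h2.unique hc')

section Kernel

variable [IsCommMonObj Q] [IsAlgClosure k Ω] {n : ℕ} (hn : (n : k) ≠ 0) (K : Subgroup (SGA7.pt (K := k) Ω ⟶ Q))

omit [IsProper Q'.hom] [GeometricallyIntegral Q'.hom] in
/-- A homomorphism dividing an étale multiplication is étale. -/
theorem etale_of_div {q : Q ⟶ Q'} [IsMonHom q] {v : Q' ⟶ Q} [IsProper Q'.hom] [GeometricallyIntegral Q'.hom]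
    (hqv : q ≫ v = (𝟙 Q) ^ n) (hvq : v ≫ q = (𝟙 Q') ^ n) (hn : (n : k) ≠ 0) :
    Etale q.left := by
  haveI : IsCommMonObj Q' := isCommMonObj_of_isProper_of_geometricallyIntegral Q'
  haveI : Etale ((𝟙 Q : Q ⟶ Q) ^ n).left := H4.NPowEtale.etale_pow hn
  haveI : Etale ((𝟙 Q' : Q' ⟶ Q') ^ n).left := H4.NPowEtale.etale_pow hn
  haveI : FormallyUnramified (v.left ≫ q.left) := by
    rw [← Over.comp_left, hvq]; infer_instance
  haveI : FormallyUnramified v.left := FormallyUnramified.of_comp v.left q.left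
  haveI : LocallyOfFiniteType (v.left ≫ Q.hom) := by rw [Over.w]; infer_instance
  haveI : LocallyOfFiniteType v.left := locallyOfFiniteType_of_comp v.left Q.hom
  exact AlgSpMor.EtaleMono.etale_of_comp q.left v.left (by rw [← Over.comp_left, hqv]; infer_instance)

variable {v}

include hn in
theorem exists_perp [IsFinite q.left] [IsMonHom v] (hK : ∀ a, a ≫ q = 1 ↔ a ∈ K) (hqv : q ≫ v = (𝟙 Q) ^ n)
    (hvq : v ≫ q = (𝟙 Q') ^ n) {g : ℕ} (hg : topologicalKrullDim Q.left = g) :
    ∃ K' : Subgroup (SGA7.pt (K := k) Ω ⟶ Q), Finite K' ∧ Finite K ∧ (∀ x ∈ K', x ^ n = 1) ∧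
      (∀ (τ : Ω ≃ₐ[k] Ω), ∀ x ∈ K', SGA7.galAct τ x ∈ K') ∧ (∀ x ∈ K', cl ℓ v x = 1) ∧
      n ^ (2 * g) ≤ Nat.card K * Nat.card K' := by
  classical
  haveI : IsAlgClosed Ω := IsAlgClosure.isAlgClosed k
  haveI : Etale q.left := etale_of_div hqv hvq hn
  haveI : IsSeparated Q'.hom := inferInstance
  obtain ⟨N, gN, i, hi, hN, -⟩ := H4.IsogenyFactor.exists_kernel q
  haveI := hi
  haveI : IsFinite N.hom := H4.KernelSquare.hom_of q i hN (P := @IsFinite) inferInstance
  haveI : Etale N.hom := H4.KernelSquare.hom_of q i hN (P := @Etale) inferInstance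
  have hiq : i ≫ q = 1 := H4.KernelSquare.comp_eq_one q i hN
  have hext : ∀ {U : Over (Spec (CommRingCat.of k))} {a b : U ⟶ N}, a ≫ i = b ≫ i → a = b := fun e =>
    hN.hom_ext e (toUnit_unique _ _)
  have hif : ∀ {U : Over (Spec (CommRingCat.of k))} (w : U ⟶ N) (x : U ⟶ Q), (x * (w ≫ i)) ≫ q = x ≫ q := fun w x => by
    rw [MonObj.mul_comp, Category.assoc, hiq, MonObj.comp_one, _root_.mul_one]
  have hlift : ∀ {U : Over (Spec (CommRingCat.of k))} (a : U ⟶ Q), a ≫ q = 1 → ∃ c : U ⟶ N, c ≫ i = a := fun a ha =>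
    ⟨hN.lift a (toUnit _) (by rw [ha, Hom.one_def]), hN.lift_fst _ _ _⟩
  have hker : ∀ {U : Over (Spec (CommRingCat.of k))} (x x' : U ⟶ Q), x ≫ q = x' ≫ q →
      ∃ y : U ⟶ N, x * (y ≫ i) = x' := fun x x' e => by
    obtain ⟨y, hy⟩ := hlift (x⁻¹ * x') (by rw [MonObj.mul_comp, GrpObj.inv_comp, e, inv_mul_cancel])
    exact ⟨y, by rw [hy, mul_inv_cancel_left]⟩
  -- the torsion points and the map to classes
  let G := AbDual.torsPts Q n (SGA7.pt (K := k) Ω)
  let Φ : G →* PicLoc.PicSet (Q' ⊗ SGA7.pt (K := k) Ω).left :=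
    MonoidHom.mk' (fun x => cl ℓ v x.1) fun x y => cl_mul ℓ v x.1 y.1
  let K' : Subgroup (SGA7.pt (K := k) Ω ⟶ Q) := Φ.ker.map G.subtype
  have hmem : ∀ x, x ∈ K' ↔ x ^ n = 1 ∧ cl ℓ v x = 1 := fun x => by
    constructor
    · rintro ⟨y, hy, rfl⟩
      exact ⟨y.2, hy⟩
    · rintro ⟨h1, h2⟩
      exact ⟨⟨x, h1⟩, h2, rfl⟩
  have hn0 : 0 < n := Nat.pos_of_ne_zero fun h => hn (by rw [h, Nat.cast_zero])
  have hcard : Nat.card G = n ^ (2 * g) := by
    haveI := AVBaseChange.isProper_bc Ω Q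
    haveI := AVBaseChange.geometricallyIntegral_bc Ω Q
    haveI := AVBaseChange.isCommMonObj_bc Ω Q
    refine (Nat.card_congr ((AVBaseChange.ptsEquiv Ω Q).toEquiv.subtypeEquiv fun x => ?_)).trans
      (AVTorsPoints.natCard_torsPts (AVBaseChange.bc Ω Q) (AVBaseChange.topologicalKrullDim_bc Ω Q hg) fun h => hn
        ((algebraMap k Ω).injective (by rw [map_natCast, h, map_zero])))
    show x ^ n = 1 ↔ (AVBaseChange.ptsEquiv Ω Q x) ^ n = 1
    rw [← map_pow, MulEquiv.map_eq_one_iff]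
  haveI : Finite G := Nat.finite_of_card_ne_zero (by rw [hcard]; exact (pow_pos hn0 _).ne')
  haveI : Finite K := Finite.of_injective
    (fun a : K => (⟨a.1, by
      show a.1 ^ n = 1
      rw [← Category.comp_id a.1, ← MonObj.comp_pow, ← hqv, ← Category.assoc, (hK a.1).2 a.2]
      exact (MonObj.one_comp v).trans rfl⟩ : G)) fun a b e => Subtype.ext (congrArg (fun z : G => z.1) e)
  haveI : Finite K' := Finite.of_equiv _ (Φ.ker.equivMapOfInjective G.subtype Subtype.val_injective).toEquiv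
  refine ⟨K', inferInstance, inferInstance, fun x hx => ((hmem x).1 hx).1, fun τ x hx => ?_,
    fun x hx => ((hmem x).1 hx).2, ?_⟩
  · obtain ⟨h1, h2⟩ := (hmem x).1 hx
    refine (hmem _).2 ⟨?_, ?_⟩
    · rw [SGA7.galAct, ← MonObj.comp_pow, h1, MonObj.comp_one]
    · rw [SGA7.galAct, ← cl_natural, h2, map_one]
  -- the range injects into the characters of `K`
  haveI : IsDomain Γ((SGA7.pt (K := k) Ω).left, ⊤) :=
    inferInstanceAs (IsDomain Γ(Spec (CommRingCat.of Ω), ⊤))
  let T := SGA7.pt (K := k) Ω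
  have hla : ∀ a : K, ∃ c : T ⟶ N, c ≫ i = a.1 := fun a => hlift a.1 ((hK a.1).2 a.2)
  choose la hla using hla
  have hla_mul : ∀ a b, la (a * b) = la a * la b := fun a b => hext (by
    rw [hla, MonObj.mul_comp, hla, hla]; rfl)
  have hla_one : la 1 = 1 := hext (by rw [hla, MonObj.one_comp]; rfl)
  haveI : IsFinite (snd N T).left := GrpSch.snd_left_of (P := @IsFinite) T (inferInstanceAs (IsFinite N.hom))
  haveI : Etale (snd N T).left := GrpSch.snd_left_of (P := @Etale) T (inferInstanceAs (Etale N.hom))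
  haveI : IsReduced (N ⊗ T).left :=
    IsogenyDescent.isReduced_of_finite_etale (k := Ω) (snd N T).left
  have hkill : ∀ x : G, KerDual.Killed q (Φ x) := fun x => killed ℓ v hqv x.1 x.2
  have hchr : ∀ (x : G) (a : K), ∃ c, IsUnit c ∧ KerDual.CharOf q i (Φ x) (la a) c :=
    fun x a => KerDual.exists_charOf hif (hkill x) (la a)
  choose χ hχu hχ using hchr
  let ch : G → (K →* Γ(T.left, ⊤)) := fun x =>
    { toFun := χ x
      map_one' := by
        have h := (hχ x 1).mul (hχ x 1)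
        rw [← hla_mul, _root_.mul_one] at h
        exact mul_left_cancel₀ (hχu x 1).ne_zero ((h.unique (hχ x 1)).trans (_root_.mul_one _).symm)
      map_mul' := fun a b => ((hla_mul a b) ▸ hχ x (a * b)).unique ((hχ x a).mul (hχ x b)) }
  have hinj : ∀ x y : G, ch x = ch y → Φ x = Φ y := by
    intro x y e
    refine eq_of_points Ω hif hker (hkill x) (hkill y) fun w => ?_
    haveI : JacobsonSpace T.left := inferInstanceAs (JacobsonSpace (Spec (CommRingCat.of Ω)))
    haveI : JacobsonSpace (N ⊗ T).left := LocallyOfFiniteType.jacobsonSpace (snd N T).left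
    haveI : Finite (N ⊗ T).left := Set.finite_univ_iff.1 ((IsFinite.finite_preimage_singleton (snd N T).left
      (IsLocalRing.closedPoint Ω)).subset fun z _ => Subsingleton.elim (α := PrimeSpectrum Ω) _ _)
    haveI : DiscreteTopology (N ⊗ T).left := inferInstance
    let p : T ⟶ N ⊗ T := Over.homMk (pointOfClosedPoint (snd N T).left w (isClosed_discrete _)) (by
      rw [← Over.w (snd N T), ← Category.assoc, pointOfClosedPoint_comp]
      exact Category.id_comp _)
    have hp : p ≫ snd N T = 𝟙 T := Over.OverMorphism.ext (pointOfClosedPoint_comp _ _ _)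
    refine ⟨p, IsLocalRing.closedPoint Ω, pointOfClosedPoint_apply _ _ _ _, fun c c' hc hc' => ?_⟩
    rw [hp, show PicCalc.ph (Q' ◁ 𝟙 T) (Φ x) = Φ x by rw [MonoidalCategory.whiskerLeft_id, PicCalc.ph_id]] at hc
    rw [hp, show PicCalc.ph (Q' ◁ 𝟙 T) (Φ y) = Φ y by rw [MonoidalCategory.whiskerLeft_id, PicCalc.ph_id]] at hc'
    let a : K := ⟨(p ≫ fst N T) ≫ i, (hK _).1 (by rw [Category.assoc, hiq, MonObj.comp_one])⟩
    have ha : la a = p ≫ fst N T := hext (hla a)
    rw [← ha] at hc hc'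
    rw [hc.unique (hχ x a), hc'.unique (hχ y a)]
    exact DFunLike.congr_fun e a
  haveI : Fintype K := Fintype.ofFinite _
  let L := Γ(T.left, ⊤)
  have hli : LinearIndependent L (fun f : K →* L => (f : K → L)) := linearIndependent_monoidHom K L
  haveI : Finite (K →* L) := hli.finite
  have hle : Nat.card Φ.range ≤ Nat.card K := by
    choose pre hpre using fun y : Φ.range => y.2
    refine (Nat.card_le_card_of_injective (fun y => ch (pre y))
      (fun y y' e => Subtype.ext (by rw [← hpre y, ← hpre y']; exact hinj _ _ e))).trans ?_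
    haveI : Fintype (K →* L) := Fintype.ofFinite _
    rw [Nat.card_eq_fintype_card, Nat.card_eq_fintype_card]
    exact (hli.fintype_card_le_finrank).trans_eq (Module.finrank_pi L)
  calc n ^ (2 * g) = Nat.card Φ.range * Nat.card Φ.ker := by
        rw [← hcard, Subgroup.card_eq_card_quotient_mul_card_subgroup Φ.ker,
          Nat.card_congr (QuotientGroup.quotientKerEquivRange Φ).toEquiv]
    _ ≤ Nat.card K * Nat.card K' :=
        Nat.mul_le_mul hle (Nat.card_congr (Φ.ker.equivMapOfInjective G.subtype Subtype.val_injective).toEquiv).le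

omit [IsProper Q'.hom] [GeometricallyIntegral Q'.hom] in
include hn in
/-- The class attached to a finite reduced scheme of orthogonal points is trivial. -/
theorem cl_eq_one [IsFinite q.left] [IsProper Q'.hom] [GeometricallyIntegral Q'.hom]
    (hqv : q ≫ v = (𝟙 Q) ^ n) (hvq : v ≫ q = (𝟙 Q') ^ n) {Z : Over (Spec (CommRingCat.of k))} [IsFinite Z.hom]
    [Etale Z.hom] (z : Z ⟶ Q) (hz : z ^ n = 1)
    (hpts : ∀ a : SGA7.pt (K := k) Ω ⟶ Z, cl ℓ v (a ≫ z) = 1) :
    cl ℓ v z = 1 := by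
  haveI : IsAlgClosed Ω := IsAlgClosure.isAlgClosed k
  haveI : Etale q.left := etale_of_div hqv hvq hn
  obtain ⟨N, gN, i, hi, hN, -⟩ := H4.IsogenyFactor.exists_kernel q
  haveI := hi
  haveI : IsFinite N.hom := H4.KernelSquare.hom_of q i hN (P := @IsFinite) inferInstance
  haveI : Etale N.hom := H4.KernelSquare.hom_of q i hN (P := @Etale) inferInstance
  have hiq : i ≫ q = 1 := H4.KernelSquare.comp_eq_one q i hN
  have hif : ∀ {U : Over (Spec (CommRingCat.of k))} (w : U ⟶ N) (x : U ⟶ Q), (x * (w ≫ i)) ≫ q = x ≫ q := fun w x => by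
    rw [MonObj.mul_comp, Category.assoc, hiq, MonObj.comp_one, _root_.mul_one]
  have hker : ∀ {U : Over (Spec (CommRingCat.of k))} (x x' : U ⟶ Q), x ≫ q = x' ≫ q →
      ∃ y : U ⟶ N, x * (y ≫ i) = x' := fun x x' e => by
    refine ⟨hN.lift (x⁻¹ * x') (toUnit _) (by rw [MonObj.mul_comp, GrpObj.inv_comp, e, inv_mul_cancel, Hom.one_def]), ?_⟩
    rw [hN.lift_fst, mul_inv_cancel_left]
  haveI : IsFinite (N ⊗ Z).hom := inferInstanceAs (IsFinite (pullback.fst N.hom Z.hom ≫ N.hom))
  haveI : Etale (N ⊗ Z).hom := inferInstanceAs (Etale (pullback.fst N.hom Z.hom ≫ N.hom))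
  haveI : IsReduced (N ⊗ Z).left := IsogenyDescent.isReduced_of_finite_etale (N ⊗ Z).hom
  haveI : JacobsonSpace (N ⊗ Z).left := LocallyOfFiniteType.jacobsonSpace (N ⊗ Z).hom
  haveI : Finite (N ⊗ Z).left := Set.finite_univ_iff.1 ((IsFinite.finite_preimage_singleton (N ⊗ Z).hom
    (IsLocalRing.closedPoint k)).subset fun x _ => Subsingleton.elim (α := PrimeSpectrum k) _ _)
  haveI : DiscreteTopology (N ⊗ Z).left := inferInstance
  refine eq_of_points Ω hif hker (killed ℓ v hqv z hz) (map_one _) fun w => ?_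
  obtain ⟨p, hp⟩ := GalOrbit.exists_pt (Ω := Ω) (N ⊗ Z) w (isClosed_discrete _)
  refine ⟨p, IsLocalRing.closedPoint Ω, hp, fun c c' hc hc' => ?_⟩
  rw [cl_natural, hpts] at hc
  rw [map_one] at hc'
  exact hc.unique hc'

end Kernel

end Groth.Agent.H63.Tate.Perp
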