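import Groth.Agent.H63.Tate.Reduce
import Groth.Agent.H63.Tate.Descend
import Groth.Agent.H63.Tate.Box
import Groth.Agent.H63.Tate.Finite
import Groth.Agent.H52.AmpleNondeg
import Groth.Agent.Lib.Exchange.FiniteAmpleMain

/-!
# Boundedness of the quotients of `Q × Q`

* `exists_sq`: square roots of `-1` modulo powers of a prime
* `allBd`: at a prime where `-1` is a square, every lattice is bounded
-/

set_option autoImplicit false
set_option linter.style.haveILetI false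
set_option synthInstance.maxHeartbeats 200000

universe u

open CategoryTheory CategoryTheory.Limits MonoidalCategory CartesianMonoidalCategory AlgebraicGeometry
open scoped MonObj GrpObj
open Groth.Agent.H3 Groth.Agent.Lib

noncomputable section

namespace Groth.Agent.H63.Tate.Quotient

local instance (Y : Scheme.{u}) : PicGrp.Law Y := Groth.Agent.Lib.TensorMod.Invertible.law Y

/-- Square roots of `-1` modulo powers of an odd prime. -/
theorem exists_sq {l : ℕ} [Fact l.Prime] (hl2 : l ≠ 2) (h : ∃ c, l ∣ c ^ 2 + 1) :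
    ∀ n, ∃ c, l ^ n ∣ c ^ 2 + 1 ∧ ¬ l ∣ c := by
  have hp : l.Prime := Fact.out
  have hnd : ∀ c, l ∣ c ^ 2 + 1 → ¬ l ∣ c := fun c hc hd =>
    hp.not_dvd_one ((Nat.dvd_add_right (dvd_pow hd two_ne_zero)).1 hc)
  intro n
  induction n with
  | zero => obtain ⟨c, hc⟩ := h; exact ⟨c, by rw [pow_zero]; exact one_dvd _, hnd c hc⟩
  | succ n ih =>
    rcases Nat.eq_zero_or_pos n with rfl | hn
    · obtain ⟨c, hc⟩ := h; exact ⟨c, by rwa [zero_add, pow_one], hnd c hc⟩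
    obtain ⟨c, ⟨m, hm⟩, hc⟩ := ih
    have hu : ((2 * c : ℕ) : ZMod l) ≠ 0 := by
      rw [Ne, ZMod.natCast_eq_zero_iff]
      exact fun hd => (hp.dvd_mul.1 hd).elim (fun h2 => hl2 ((Nat.prime_dvd_prime_iff_eq hp Nat.prime_two).1 h2)) hc
    set t := (-(m : ZMod l) * ((2 * c : ℕ) : ZMod l)⁻¹).val
    have ht : l ∣ m + 2 * c * t := by
      rw [← ZMod.natCast_eq_zero_iff, Nat.cast_add, Nat.cast_mul _ t, ZMod.natCast_zmod_val,
        mul_comm ((2 * c : ℕ) : ZMod l), mul_assoc, inv_mul_cancel₀ hu, mul_one, add_neg_cancel]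
    obtain ⟨s, hs⟩ := ht
    have hdvd : l ^ (n + 1) ∣ (c + t * l ^ n) ^ 2 + 1 := by
      obtain ⟨n', rfl⟩ := Nat.exists_eq_succ_of_ne_zero hn.ne'
      rw [Nat.succ_eq_add_one] at hm ⊢
      refine ⟨s + t ^ 2 * l ^ n', ?_⟩
      calc (c + t * l ^ (n' + 1)) ^ 2 + 1 = (c ^ 2 + 1) + 2 * c * t * l ^ (n' + 1) + t ^ 2 * l ^ (n' + 1) * l ^ (n' + 1) := by ring
        _ = l ^ (n' + 1) * (m + 2 * c * t) + t ^ 2 * l ^ (n' + 1) * l ^ (n' + 1) := by rw [hm]; ring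
        _ = l ^ (n' + 1 + 1) * (s + t ^ 2 * l ^ n') := by rw [hs]; ring
    exact ⟨_, hdvd, hnd _ ((dvd_pow_self l (Nat.succ_ne_zero n)).trans hdvd)⟩

theorem eq_one_of_pow {G : Type*} [Group G] {z : G} {N m : ℕ} (h : z ^ N = 1) (h' : z ^ m = 1)
    (hco : m.Coprime N) : z = 1 := by
  have := (pow_gcd_eq_one (m := m) (n := N) (a := z)).2 ⟨h', h⟩
  rwa [hco.gcd_eq_one, pow_one] at this

theorem mul_pow_aux {G : Type*} [CommGroup G] (a b x : G) (m N : ℕ) (c : ℕ) :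
    ((a ^ m) ^ 2 * x⁻¹ * (x * (b ^ 2)⁻¹)) ^ N = a ^ (2 * N * m) * (b ^ (2 * N))⁻¹ := by
  rw [mul_assoc, inv_mul_cancel_left, mul_pow, inv_pow, ← pow_mul, ← pow_mul, ← pow_mul]
  congr 2
  ring

variable {k Ω : Type u} [Field k] [Field Ω] [Algebra k Ω] [IsAlgClosure k Ω]

/-- A morphism from a reduced finite scheme killing all geometric points is trivial. -/
theorem eq_one_of_pts {M X : Over (Spec (CommRingCat.of k))} [IsFinite M.hom] [IsReduced M.left] [GrpObj X]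
    [IsSeparated X.hom] (f : M ⟶ X) (h : ∀ a : SGA7.pt (K := k) Ω ⟶ M, a ≫ f = 1) : f = 1 := by
  haveI : JacobsonSpace M.left := LocallyOfFiniteType.jacobsonSpace M.hom
  haveI : Finite M.left := Set.finite_univ_iff.1 ((IsFinite.finite_preimage_singleton M.hom
    (IsLocalRing.closedPoint k)).subset fun x _ => Subsingleton.elim (α := PrimeSpectrum k) _ _)
  haveI : DiscreteTopology M.left := inferInstance
  haveI : IsClosedImmersion (η[X].left ≫ X.hom) := by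
    rw [Over.w η[X]]; exact (inferInstance : IsClosedImmersion (𝟙 (Spec (CommRingCat.of k))))
  haveI : IsClosedImmersion η[X].left := IsClosedImmersion.of_comp η[X].left X.hom
  let j := pullback.fst f.left η[X].left
  haveI : IsClosedImmersion j := inferInstance
  haveI : Surjective j := ⟨fun w => by
    obtain ⟨a, ha⟩ := GalOrbit.exists_pt (Ω := Ω) M w (isClosed_discrete _)
    have e : a.left ≫ f.left = (toUnit (SGA7.pt (K := k) Ω)).left ≫ η[X].left := by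
      rw [← Over.comp_left, h, Hom.one_def, Over.comp_left]
    exact ⟨pullback.lift a.left _ e (IsLocalRing.closedPoint Ω), by
      rw [← Scheme.Hom.comp_apply, pullback.lift_fst]; exact ha⟩⟩
  haveI : IsIso j := isIso_of_isClosedImmersion_of_surjective j
  refine Over.OverMorphism.ext ((cancel_epi j).1 ?_)
  rw [pullback.condition, Hom.one_def, Over.comp_left, ← Category.assoc]
  congr 1
  refine (Category.comp_id _).symm.trans ((congrArg (pullback.snd f.left η[X].left ≫ ·) (Over.w η[X]).symm).trans ?_)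
  rw [← Category.assoc, ← pullback.condition, Category.assoc, Over.w f]
  rfl

variable [Finite k] {l : ℕ} [Fact l.Prime]

/-- **Boundedness.** -/
theorem allBd (hl : (l : k) ≠ 0) (hl2 : l ≠ 2) (hsq : ∃ c, l ∣ c ^ 2 + 1) : Reduce.AllBd k Ω l := by
  intro Q _ _ _ _ S hS
  classical
  haveI : IsAlgClosed Ω := IsAlgClosure.isAlgClosed k
  haveI : IsIntegral Q.left := GeometricallyIntegral.isIntegral_of_subsingleton Q.hom
  obtain ⟨g, hg⟩ := AVIsogeny.exists_dim (A := Q)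
  haveI := H4.Chow.isProper_prod Q Q
  haveI := H4.Chow.geometricallyIntegral_prod Q Q
  haveI : IsIntegral (Q ⊗ Q).left := GeometricallyIntegral.isIntegral_of_subsingleton (Q ⊗ Q).hom
  have hdZ : topologicalKrullDim (Q ⊗ Q).left = ((g + g : ℕ) : WithBot ℕ∞) := by
    refine (Flat55.DimSums.dim_pullback Q.hom Q.hom).trans ?_
    rw [hg]; norm_cast
  obtain ⟨L, hLi, hL, hsym⟩ := Bilinear.exists_symm Q
  set ℓ := PicGrp.cls L hLi with hℓ
  obtain ⟨L₂, h₂, hL₂, hc₂⟩ := Box.exists_box Q hL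
  let χΩ := fun {Y : Over (Spec (CommRingCat.of k))} (M : Y.left.Modules) =>
    @Curv2.euler Ω _ (AVBaseChange.bc Ω Y).left ⟨(AVBaseChange.bc Ω Y).hom⟩ (Polarised.bcM Ω M)
  obtain ⟨J, hJ, F, hF⟩ := Finiteness.finite_isoClasses k Ω (g + g) (2 ^ (g + g) * (χΩ L₂).toNat)
  refine ⟨J, hJ, F, fun n hn => ?_⟩
  obtain ⟨c, hc, hlc⟩ := exists_sq hl2 hsq n
  set N := l ^ n with hN
  have hNp : 0 < N := by rw [hN]; exact pow_pos (Fact.out : l.Prime).pos n
  have hN0 : (N : k) ≠ 0 := by rw [hN, Nat.cast_pow]; exact pow_ne_zero _ hl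
  have hp : l.Prime := Fact.out
  have hcN : c.Coprime N := (((Nat.Prime.coprime_iff_not_dvd hp).2 hlc).pow_left n).symm
  have h2N : Nat.Coprime 2 N := (((Nat.coprime_primes hp Nat.prime_two).2 hl2).pow_left n).symm
  let T := SGA7.pt (K := k) Ω
  -- the image of `S` at level `n`
  let cp := fun s : AbDual.TateMod Q l T => (AbDual.TateMod.component Q l T n s).toMul
  have hcp_mul : ∀ a b, cp (a + b) = cp a * cp b := fun a b => by simp only [cp, map_add, toMul_add]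
  have hcp_tor : ∀ s, cp s ^ N = 1 := fun s => congrArg Additive.toMul (s.torsion n)
  let K : Subgroup (T ⟶ Q) :=
    { carrier := {a | ∃ s ∈ S, cp s = a}
      one_mem' := ⟨0, S.zero_mem, by simp [cp]⟩
      mul_mem' := by rintro _ _ ⟨s, hs, rfl⟩ ⟨t, ht, rfl⟩; exact ⟨s + t, S.add_mem hs ht, hcp_mul s t⟩
      inv_mem' := by rintro _ ⟨s, hs, rfl⟩; exact ⟨-s, S.neg_mem hs, by simp [cp]⟩ }
  have hKtor : ∀ a ∈ K, a ^ N = 1 := by rintro _ ⟨s, -, rfl⟩; exact hcp_tor s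
  have hKgal : ∀ (τ : Ω ≃ₐ[k] Ω), ∀ a ∈ K, SGA7.galAct τ a ∈ K := by
    rintro τ _ ⟨s, hs, rfl⟩
    obtain ⟨s', hs', h⟩ := hS τ s hs
    exact ⟨s', hs', h n⟩
  obtain ⟨Q', gQ', q, v, hp', hi', hq, hqf, hqs, hv, hqv, hvq, hqK⟩ :=
    GalQuotient.exists_quotient Ω hN0 K hKtor hKgal
  letI := gQ'; haveI := hp'; haveI := hi'; haveI := hq; haveI := hqf; haveI := hqs; haveI := hv
  haveI : Etale q.left := Perp.etale_of_div hqv hvq hN0
  obtain ⟨K', hK'f, hKf, hK'tor, hK'gal, hK'cl, hcount⟩ :=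
    Perp.exists_perp Ω ℓ hN0 K hqK hqv hvq hg
  haveI := hK'f; haveI := hKf
  obtain ⟨Q'', gQ'', hp'', hi'', r, hr, Φ, hrK, -, -, hΦ⟩ :=
    Descend.exists_descend Ω hN0 ℓ hqv hvq K' hK'tor hK'gal hK'cl
  letI := gQ''; haveI := hp''; haveI := hi''; haveI := hr
  -- the subgroup
  let ψ : (K × K') →* (T ⟶ Q ⊗ Q) := MonoidHom.mk' (fun p => lift (p.1.1 * p.2.1) ((p.1.1 * p.2.1⁻¹) ^ c))
    (fun p p' => by
      apply CartesianMonoidalCategory.hom_ext
      · rw [MonObj.mul_comp, lift_fst, lift_fst, lift_fst]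
        exact mul_mul_mul_comm _ _ _ _
      · rw [MonObj.mul_comp, lift_snd, lift_snd, lift_snd, ← mul_pow]
        show (p.1.1 * p'.1.1 * (p.2.1 * p'.2.1)⁻¹) ^ c = _
        congr 1
        rw [mul_inv]
        exact mul_mul_mul_comm _ _ _ _)
  have hψf : ∀ p, ψ p ≫ fst Q Q = p.1.1 * p.2.1 := fun p => lift_fst _ _
  have hψs : ∀ p, ψ p ≫ snd Q Q = (p.1.1 * p.2.1⁻¹) ^ c := fun p => lift_snd _ _
  have htor : ∀ p : K × K', (p.1.1 * p.2.1⁻¹) ^ N = 1 := fun p => by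
    rw [mul_pow, inv_pow, hKtor _ p.1.2, hK'tor _ p.2.2, inv_one, mul_one]
  have hψinj : Function.Injective ψ := by
    refine (injective_iff_map_eq_one ψ).2 fun p hp1 => ?_
    have h1 : p.1.1 * p.2.1 = 1 := by rw [← hψf, hp1, MonObj.one_comp]
    have h2 : p.1.1 * p.2.1⁻¹ = 1 := eq_one_of_pow (htor p) (by rw [← hψs, hp1, MonObj.one_comp]) hcN
    have h3 : p.1.1 ^ 2 = 1 := by
      have h4 := congrArg₂ (· * ·) h1 h2
      simp only [mul_one] at h4
      rw [← h4, pow_two, mul_mul_mul_comm, mul_inv_cancel, mul_one]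
    have hx : p.1.1 = 1 := eq_one_of_pow (hKtor _ p.1.2) h3 h2N
    rw [hx, one_mul] at h1
    exact Prod.ext (Subtype.ext hx) (Subtype.ext h1)
  refine ⟨c, ψ.range, hc, ?_, ?_, ?_, ?_, ?_⟩
  · rintro _ ⟨p, rfl⟩
    rw [← map_pow, show p ^ N = 1 from Prod.ext (Subtype.ext (hKtor _ p.1.2)) (Subtype.ext (hK'tor _ p.2.2)), map_one]
  · rintro τ _ ⟨p, rfl⟩
    refine ⟨(⟨_, hKgal τ _ p.1.2⟩, ⟨_, hK'gal τ _ p.2.2⟩), ?_⟩
    show lift (SGA7.galAct τ p.1.1 * SGA7.galAct τ p.2.1) ((SGA7.galAct τ p.1.1 * (SGA7.galAct τ p.2.1)⁻¹) ^ c) =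
      SGA7.galAct τ (lift _ _)
    simp only [SGA7.galAct, comp_lift, MonObj.comp_mul, MonObj.comp_pow, GrpObj.comp_inv]
  · rintro _ ⟨p, rfl⟩
    obtain ⟨s, hs, hsx⟩ := p.1.2
    refine ⟨s + s, S.add_mem hs hs, ?_⟩
    show cp (s + s) = _
    have hz : ((p.1.1 * p.2.1⁻¹) ^ c) ^ c = (p.1.1 * p.2.1⁻¹)⁻¹ := by
      refine eq_inv_of_mul_eq_one_left ?_
      obtain ⟨j, hj⟩ := hc
      rw [← pow_mul, ← pow_succ, show c * c + 1 = N * j by rw [← pow_two]; exact hj, pow_mul, htor, one_pow]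
    rw [hcp_mul, hsx, hψf, hψs, hz, inv_inv, mul_mul_mul_comm, mul_inv_cancel, mul_one]
  · intro s hs
    refine ⟨(⟨cp s, s, hs, rfl⟩, 1), ?_⟩
    show lift (cp s * 1) ((cp s * (1 : T ⟶ Q)⁻¹) ^ c) = _
    rw [inv_one, mul_one]
  intro Y _ _ _ gg _ w _ hgf hgs hgw hwg hker
  haveI := hgf; haveI := hgs
  haveI : IsCommMonObj Y := isCommMonObj_of_isProper_of_geometricallyIntegral Y
  haveI : Etale gg.left := Perp.etale_of_div hgw hwg hN0
  obtain ⟨N₀, gN₀, i₀, hi₀, hN₀, -⟩ := H4.IsogenyFactor.exists_kernel gg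
  haveI := hi₀
  haveI : IsFinite N₀.hom := H4.KernelSquare.hom_of gg i₀ hN₀ (P := @IsFinite) inferInstance
  haveI : Etale N₀.hom := H4.KernelSquare.hom_of gg i₀ hN₀ (P := @Etale) inferInstance
  haveI : IsReduced N₀.left := IsogenyDescent.isReduced_of_finite_etale N₀.hom
  -- the map to `Q' × Q''`
  haveI : IsMonHom ((𝟙 Q : Q ⟶ Q) ^ c) := H4.NPowEtale.isMonHom_pow_id Q c
  let a₀ : Q ⊗ Q ⟶ Q := fst Q Q ≫ (𝟙 Q) ^ c
  let pp : Q ⊗ Q ⟶ Q := a₀ * snd Q Q
  let pm : Q ⊗ Q ⟶ Q := a₀ * (snd Q Q)⁻¹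
  haveI : IsMonHom a₀ := inferInstanceAs (IsMonHom (fst Q Q ≫ (𝟙 Q) ^ c))
  haveI : IsMonHom pp := H4.AVHom.isMonHom_of_pointed _ (by
    show η[Q ⊗ Q] ≫ (a₀ * snd Q Q) = _
    rw [MonObj.comp_mul, IsMonHom.one_hom a₀, IsMonHom.one_hom (snd Q Q), MonObj.one_eq_one, one_mul])
  haveI : IsMonHom pm := H4.AVHom.isMonHom_of_pointed _ (by
    show η[Q ⊗ Q] ≫ (a₀ * (snd Q Q)⁻¹) = _
    rw [MonObj.comp_mul, GrpObj.comp_inv, IsMonHom.one_hom a₀, IsMonHom.one_hom (snd Q Q), MonObj.one_eq_one, inv_one, one_mul])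
  haveI := H4.Chow.isProper_prod Q' Q''
  have ha₀ : ∀ {U : Over (Spec (CommRingCat.of k))} (a : U ⟶ Q ⊗ Q), a ≫ a₀ = (a ≫ fst Q Q) ^ c := fun a => by
    show a ≫ fst Q Q ≫ (𝟙 Q) ^ c = _
    rw [← Category.assoc, MonObj.comp_pow, Category.comp_id]
  let φ : Q ⊗ Q ⟶ Q' ⊗ Q'' := lift (pp ≫ q) (pm ≫ r)
  haveI : IsMonHom φ := inferInstanceAs (IsMonHom (lift (pp ≫ q) (pm ≫ r)))
  have hkill : i₀ ≫ φ = 1 := eq_one_of_pts (Ω := Ω) _ fun a => by
    obtain ⟨p, hpa⟩ := (hker (a ≫ i₀)).1 (by rw [Category.assoc, H4.KernelSquare.comp_eq_one gg i₀ hN₀, MonObj.comp_one])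
    have ep : ψ p ≫ pp = (p.1.1 ^ c) ^ 2 := by
      show ψ p ≫ (a₀ * snd Q Q) = _
      rw [MonObj.comp_mul, ha₀, hψf, hψs, ← mul_pow, mul_mul_mul_comm, mul_inv_cancel, mul_one, ← pow_two,
        ← pow_mul, ← pow_mul, mul_comm]
    have em : ψ p ≫ pm = (p.2.1 ^ c) ^ 2 := by
      show ψ p ≫ (a₀ * (snd Q Q)⁻¹) = _
      rw [MonObj.comp_mul, GrpObj.comp_inv, ha₀, hψf, hψs, ← inv_pow, ← mul_pow, mul_inv, inv_inv,
        mul_mul_mul_comm, mul_inv_cancel, one_mul, ← pow_two, ← pow_mul, ← pow_mul, mul_comm]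
    rw [← Category.assoc, ← hpa]
    apply CartesianMonoidalCategory.hom_ext
    · rw [Category.assoc, lift_fst, ← Category.assoc, ep, MonObj.one_comp]
      exact (hqK _).2 (K.pow_mem (K.pow_mem p.1.2 c) 2)
    · rw [Category.assoc, lift_snd, ← Category.assoc, em, MonObj.one_comp]
      exact (hrK _).2 (K'.pow_mem (K'.pow_mem p.2.2 c) 2)
  obtain ⟨h, -, hgh⟩ := H4.IsogenyFactor.exists_factor gg i₀ hN₀ φ hkill
  -- the descended class
  obtain ⟨j, hj⟩ := hc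
  let la := PicCalc.ph (fst Q Q) ℓ
  let lb := PicCalc.ph (snd Q Q) ℓ
  let ν : PicLoc.PicSet Y.left := (PicCalc.ph h Φ)⁻¹ * PicCalc.ph (w ≫ fst Q Q) ℓ ^ (2 * j)
  have hpow : ∀ m : ℕ, PicCalc.ph ((fst Q Q) ^ m) ℓ = la ^ (m * m) := fun m => by
    rw [show (fst Q Q) ^ m = fst Q Q ≫ (𝟙 Q : Q ⟶ Q) ^ (m : ℤ) by rw [zpow_natCast, MonObj.comp_pow, Category.comp_id],
      PicCalc.ph_comp, AVSymmetric.ph_zpow Q ℓ hsym, Int.natAbs_natCast, map_pow]
  have hB : PicCalc.ph φ Φ = la ^ (2 * N * (c * c)) * (lb ^ (2 * N))⁻¹ := by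
    have e1 : φ = lift (pp ≫ q) pm ≫ (Q' ◁ r) := by
      apply CartesianMonoidalCategory.hom_ext <;> simp [φ]
    have e2 : a₀ = (fst Q Q) ^ c := by
      show fst Q Q ≫ _ = _
      rw [MonObj.comp_pow, Category.comp_id]
    rw [e1, PicCalc.ph_comp, hΦ, Perp.cl, Bilinear.natural, lift_fst_assoc, lift_snd_assoc, Category.comp_id,
      Category.assoc, hqv, MonObj.comp_pow, Category.comp_id, Bilinear.pow_left]
    show Bilinear.B ℓ (a₀ * snd Q Q) (a₀ * (snd Q Q)⁻¹) ^ N = _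
    rw [Bilinear.mul_left, Bilinear.comm ℓ a₀, Bilinear.comm ℓ (snd Q Q) (a₀ * _), Bilinear.mul_left, Bilinear.mul_left,
      Bilinear.inv_left, Bilinear.inv_left, Bilinear.self hsym, Bilinear.self hsym, Bilinear.comm ℓ (snd Q Q) a₀,
      e2, hpow]
    exact mul_pow_aux _ _ _ _ _ c
  have hν : PicCalc.ph gg ν = (la * lb) ^ (2 * N) := by
    rw [map_mul, map_inv, map_pow, ← PicCalc.ph_comp, ← PicCalc.ph_comp, hgh, hB, ← Category.assoc, hgw,
      MonObj.pow_comp, Category.id_comp, hpow, ← pow_mul, mul_inv_rev, inv_inv, mul_assoc,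
      show N * N * (2 * j) = 2 * N * (c * c) + 2 * N by rw [← pow_two c, show N * N * (2 * j) = 2 * N * (N * j) by ring, ← hj]; ring,
      pow_add, mul_pow, inv_mul_cancel_left, mul_comm]
  obtain ⟨M, hMi, hMc⟩ := PicGrp.exists_eq_cls ν
  have hg2 := PicLoc.isInvertible_pullback gg.left hMi
  have hP2 := TensorMod.Invertible.isInvertible_tensorPow h₂ (2 * N)
  obtain ⟨iso⟩ : Nonempty ((Scheme.Modules.pullback gg.left).obj M ≅ CohB1.tensorPow L₂ (2 * N)) :=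
    (PicCalc.iso_iff (PicCalc.cl_pullback gg (a := ν) (by rw [hMc]; rfl))
      (AmpleCompl.cl_tensorPow (a := PicGrp.cls L₂ h₂) rfl _)).2 (by rw [hν, hc₂])
  have hN1 : 0 < 2 * N := by omega
  have hMamp : CohB1.IsAmple M := by
    letI : Y.left.Over (Spec (CommRingCat.of k)) := ⟨Y.hom⟩
    haveI : IsProper (Y.left ↘ Spec (CommRingCat.of k)) := ‹IsProper Y.hom›
    exact Exchange.FiniteAmple.isAmple_of_finite_surjective k gg.left hMi
      (Ample.Pow.isAmple_of_iso iso.symm ((Ample.Pow.isAmple_tensorPow_iff h₂ hN1).1 hL₂))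
  have hdY : topologicalKrullDim Y.left = ((g + g : ℕ) : WithBot ℕ∞) :=
    ((AffineCompl.Dim.topologicalKrullDim_of_finite_surjective gg.left gg.left.surjective).symm).trans hdZ
  refine hF Y hdY M hMamp ?_
  -- Euler characteristics
  have hk : ∀ {X : Over (Spec (CommRingCat.of k))} [GrpObj X] [IsProper X.hom] [GeometricallyIntegral X.hom]
      {G : X.left.Modules}, PicF.IsInvertible G → χΩ G = @Curv2.euler k _ X.left ⟨X.hom⟩ G := by
    intro X _ _ _ G hG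
    exact finsum_congr fun p => by rw [Polarised.finrank_HH_bc Ω hG p]
  have hd := Box.euler_pullback_kernel gg M (Ample.GG.isCoh_of_isInvertible hMi)
  rw [← hk hg2, ← hk hMi] at hd
  have hdeg : N ^ (g + g) ≤ H52.IsogenyDegree.gammaDeg (pullback gg η[Y]) := by
    haveI : IsFinite (pullback gg η[Y]).hom :=
      H4.KernelSquare.hom_of gg (pullback.fst gg η[Y]) (by
        show IsPullback _ _ _ _
        rw [show toUnit (pullback gg η[Y]) = pullback.snd gg η[Y] from toUnit_unique _ _]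
        exact IsPullback.of_hasPullback _ _) (P := @IsFinite) inferInstance
    obtain ⟨hfin, hle⟩ := Box.natCard_le_gammaDeg Ω (pullback gg η[Y])
    haveI := hfin
    refine le_trans (le_trans (le_of_eq_of_le (by rw [two_mul]) hcount) ?_) hle
    rw [← Nat.card_prod]
    refine Nat.card_le_card_of_injective (fun p => pullback.lift (ψ p) (toUnit _) (by
      rw [(hker _).2 ⟨p, rfl⟩, Hom.one_def])) fun p p' e => hψinj ?_
    have := congrArg (· ≫ pullback.fst gg η[Y]) e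
    simpa only [pullback.lift_fst] using this
  haveI := AVBaseChange.isProper_bc Ω Y
  haveI := AVBaseChange.geometricallyIntegral_bc Ω Y
  letI : GrpObj (AVBaseChange.bc Ω Y) := inferInstance
  have hpos : 0 ≤ χΩ M := by
    show 0 ≤ @Curv2.euler Ω _ _ _ _
    rw [← Polarised.finrank_h0 (Polarised.isAmple_bc Ω hMamp)]
    exact Int.natCast_nonneg _
  haveI := AVBaseChange.isProper_bc Ω (Q ⊗ Q)
  haveI := AVBaseChange.geometricallyIntegral_bc Ω (Q ⊗ Q)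
  have hA2 := Polarised.isAmple_bc Ω hL₂
  have hlhs : χΩ ((Scheme.Modules.pullback gg.left).obj M) = ((2 * N : ℕ) : ℤ) ^ (g + g) * χΩ L₂ := by
    show @Curv2.euler Ω _ _ ⟨_⟩ _ = _
    letI : (AVBaseChange.bc Ω (Q ⊗ Q)).left.Over (Spec (CommRingCat.of Ω)) := ⟨(AVBaseChange.bc Ω (Q ⊗ Q)).hom⟩
    haveI : IsProper ((AVBaseChange.bc Ω (Q ⊗ Q)).left ↘ Spec (CommRingCat.of Ω)) :=
      AVBaseChange.isProper_bc Ω (Q ⊗ Q)
    rw [(H52.IsogenyEuler.isAdd_euler (k := Ω)).iso ((Scheme.Modules.pullback (Polarised.proj Ω (Q ⊗ Q))).mapIso iso ≪≫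
      Ample.Pow.pullbackPow (Polarised.proj Ω (Q ⊗ Q)) L₂ (2 * N))]
    exact H52.EulerHomogeneous.euler_pow (g + g) (AVBaseChange.topologicalKrullDim_bc Ω (Q ⊗ Q) hdZ) _ hA2.1
      ((H52.AmpleNondeg.finite_translationFixing _ _ hA2).subset fun a ha =>
        (PicCalc.iso_iff (PicCalc.cl_pullback _ (a := PicGrp.cls _ hA2.1) rfl) (b := PicGrp.cls _ hA2.1) rfl).mpr ha) _ hN1
  rw [hlhs] at hd
  show χΩ M ≤ ((2 ^ (g + g) * (χΩ L₂).toNat : ℕ) : ℤ)
  push_cast at hd ⊢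
  rw [mul_pow] at hd
  have hNpos : (0 : ℤ) < (N : ℤ) ^ (g + g) := pow_pos (Int.natCast_pos.2 hNp) _
  refine le_of_mul_le_mul_left ?_ hNpos
  calc (N : ℤ) ^ (g + g) * χΩ M ≤ (H52.IsogenyDegree.gammaDeg (pullback gg η[Y]) : ℤ) * χΩ M :=
        mul_le_mul_of_nonneg_right (by exact_mod_cast hdeg) hpos
    _ = (2 : ℤ) ^ (g + g) * (N : ℤ) ^ (g + g) * χΩ L₂ := hd.symm
    _ ≤ _ := by
      rw [mul_comm ((2 : ℤ) ^ (g + g)) ((N : ℤ) ^ (g + g)), mul_assoc]
      exact mul_le_mul_of_nonneg_left (mul_le_mul_of_nonneg_left (Int.self_le_toNat _) (by positivity)) hNpos.le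

end Groth.Agent.H63.Tate.Quotient
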