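import Groth.Agent.H63.GalEnd
import Groth.Agent.H63.Tate.FrobGal
import Groth.Agent.H63.Tate.Limit
import Groth.Agent.S14944
import Groth.Agent.S16588

/-!
# The Tate theorem over a finite field, from boundedness at one auxiliary prime

* `mem_range_of_commute`: at the auxiliary prime the commutant of Frobenius is spanned by endomorphisms
* `finrank_range`: the endomorphisms span a space whose dimension is the rank
* `mem_span`: the Tate theorem
-/

set_option autoImplicit false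
set_option synthInstance.maxHeartbeats 200000

universe u

open CategoryTheory CategoryTheory.Limits MonoidalCategory CartesianMonoidalCategory AlgebraicGeometry
open scoped MonObj GrpObj TensorProduct
open Groth.Agent.Lib Groth.Agent.H63.GalEnd

namespace Groth.Agent.H63.Tate.Reduce

variable {k Ω : Type u} [Field k] [Finite k] [Field Ω] [Algebra k Ω] [IsAlgClosure k Ω]

/-- Boundedness for all abelian varieties at `l`. -/
def AllBd (k Ω : Type u) [Field k] [Field Ω] [Algebra k Ω] (l : ℕ) [Fact l.Prime] : Prop :=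
  ∀ (Q : Over (Spec (CommRingCat.of k))) [GrpObj Q] [IsCommMonObj Q] [IsProper Q.hom] [GeometricallyIntegral Q.hom]
    (S : Submodule ℤ_[l] (AbDual.TateMod Q l (SGA7.pt (K := k) Ω))),
    (∀ (τ : Ω ≃ₐ[k] Ω), ∀ z ∈ S, ∃ z' ∈ S, ∀ m : ℕ, (AbDual.TateMod.component Q l (SGA7.pt (K := k) Ω) m z').toMul =
      SGA7.galAct τ (AbDual.TateMod.component Q l (SGA7.pt (K := k) Ω) m z).toMul) → Limit.Bd Ω l S

variable {l : ℕ} [Fact l.Prime]

theorem one_tmul_injective (M : Type*) [AddCommGroup M] [Module ℤ_[l] M] [Module.Free ℤ_[l] M] :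
    Function.Injective fun t : M => (1 : ℚ_[l]) ⊗ₜ[ℤ_[l]] t := by
  intro x y h
  let b := Module.Free.chooseBasis ℤ_[l] M
  refine b.ext_elem fun i => IsFractionRing.injective ℤ_[l] ℚ_[l] ?_
  have := congrArg (fun z => (Algebra.TensorProduct.basis ℚ_[l] b).repr z i) h
  simpa [Algebra.smul_def] using this

section Step

variable {X : Over (Spec (CommRingCat.of k))} [GrpObj X] [IsCommMonObj X] [IsProper X.hom] [GeometricallyIntegral X.hom]

/-- The Galois action on the Tate module. -/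
theorem exists_rho (τ : Ω ≃ₐ[k] Ω) (hl : (l : k) ≠ 0) :
    ∃ ρ : Module.End ℤ_[l] (AbDual.TateMod X l (SGA7.pt (K := k) Ω)), ∀ z m,
      (AbDual.TateMod.component X l (SGA7.pt (K := k) Ω) m (ρ z)).toMul =
        SGA7.galAct τ (AbDual.TateMod.component X l (SGA7.pt (K := k) Ω) m z).toMul := by
  refine ⟨{ toFun := fun z => ⟨fun m => Additive.ofMul (SGA7.galAct τ ((z : ℕ → Additive (SGA7.pt (K := k) Ω ⟶ X)) m).toMul),
      fun m => ?_, fun m => ?_⟩, map_add' := fun x y => ?_, map_smul' := fun a x => ?_ }, fun z m => rfl⟩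
  · show Additive.ofMul ((SGA7.galAct τ _) ^ (l ^ m)) = 0
    rw [SGA7.galAct, ← MonObj.comp_pow]
    show Additive.ofMul (_ ≫ (((z : ℕ → Additive (SGA7.pt (K := k) Ω ⟶ X)) m).toMul ^ (l ^ m))) = 0
    rw [show ((z : ℕ → Additive (SGA7.pt (K := k) Ω ⟶ X)) m).toMul ^ (l ^ m) = 1 from congrArg Additive.toMul (z.torsion m),
      MonObj.comp_one]
    rfl
  · show Additive.ofMul ((SGA7.galAct τ _) ^ l) = Additive.ofMul (SGA7.galAct τ _)
    rw [SGA7.galAct, ← MonObj.comp_pow, show ((z : ℕ → Additive (SGA7.pt (K := k) Ω ⟶ X)) (m + 1)).toMul ^ l =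
      ((z : ℕ → Additive (SGA7.pt (K := k) Ω ⟶ X)) m).toMul from congrArg Additive.toMul (z.compat m)]
    rfl
  · refine AbDual.TateMod.ext fun m => congrArg Additive.ofMul ?_
    exact MonObj.comp_mul _ _ _
  · refine AbDual.TateMod.ext fun m => ?_
    show Additive.ofMul (SGA7.galAct τ (((x : ℕ → Additive (SGA7.pt (K := k) Ω ⟶ X)) m).toMul ^ a.appr m)) =
      Additive.ofMul ((SGA7.galAct τ ((x : ℕ → Additive (SGA7.pt (K := k) Ω ⟶ X)) m).toMul) ^ a.appr m)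
    exact congrArg Additive.ofMul (MonObj.comp_pow _ _ _)

theorem rho_frob {π : X ⟶ X} [IsMonHom π] (hπ : ∀ a : SGA7.pt (K := k) Ω ⟶ X, SGA7.galAct (FrobGal.frobΩ k Ω) a = a ≫ π)
    (ρ : Module.End ℤ_[l] (AbDual.TateMod X l (SGA7.pt (K := k) Ω)))
    (hρ : ∀ z m, (AbDual.TateMod.component X l (SGA7.pt (K := k) Ω) m (ρ z)).toMul =
      SGA7.galAct (FrobGal.frobΩ k Ω) (AbDual.TateMod.component X l (SGA7.pt (K := k) Ω) m z).toMul) :
    ρ = AbDual.tateMapₗ (l := l) (T := SGA7.pt (K := k) Ω) π :=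
  LinearMap.ext fun z => AbDual.TateMod.ext fun m => congrArg Additive.ofMul ((hρ z m).trans (hπ _))

/-- A torsion point lies on a finite scheme over `X`. -/
theorem exists_pow_galAct {π : X ⟶ X} (hπ : ∀ a : SGA7.pt (K := k) Ω ⟶ X, SGA7.galAct (FrobGal.frobΩ k Ω) a = a ≫ π)
    {N : ℕ} (hN : 0 < N) (a : SGA7.pt (K := k) Ω ⟶ X) (ha : a ^ N = 1) (τ : Ω ≃ₐ[k] Ω) :
    ∃ j : ℕ, SGA7.galAct τ a = (fun b : SGA7.pt (K := k) Ω ⟶ X => b ≫ π)^[j] a := by
  haveI : IsIntegral X.left := GeometricallyIntegral.isIntegral_of_subsingleton X.hom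
  let m : X ⟶ X := (𝟙 X) ^ N
  haveI : IsMonHom m := H4.NPowEtale.isMonHom_pow_id X N
  obtain ⟨hmf, -, -⟩ := H4.MulIso.nat X hN
  haveI : IsFinite m.left := hmf
  obtain ⟨M, gM, j, hj, hM, -⟩ := H4.IsogenyFactor.exists_kernel m
  haveI := hj
  haveI : IsFinite M.hom := H4.KernelSquare.hom_of m j hM (P := @IsFinite) inferInstance
  obtain ⟨c, rfl⟩ : ∃ c : SGA7.pt (K := k) Ω ⟶ M, c ≫ j = a :=
    ⟨hM.lift a (toUnit _) (by rw [MonObj.comp_pow, Category.comp_id, ha, Hom.one_def]), hM.lift_fst _ _ _⟩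
  obtain ⟨i, hi⟩ := FrobGal.exists_pow_galAct k Ω c τ
  refine ⟨i, ?_⟩
  have key : ∀ i, (fun b => SGA7.galAct (FrobGal.frobΩ k Ω) b)^[i] c ≫ j =
      (fun b : SGA7.pt (K := k) Ω ⟶ X => b ≫ π)^[i] (c ≫ j) := by
    intro i
    induction i with
    | zero => rfl
    | succ i ih =>
      rw [Function.iterate_succ_apply', Function.iterate_succ_apply', ← ih, ← hπ]
      exact Category.assoc _ _ _
  rw [← key, ← hi]
  exact (Category.assoc _ _ _).symm

variable (hl : (l : k) ≠ 0) (hl2 : l ≠ 2) (hBd : AllBd k Ω l)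

include hl hl2 hBd in
/-- At the auxiliary prime, the commutant of Frobenius consists of endomorphisms. -/
theorem mem_range_of_commute [Module.Free ℤ_[l] (AbDual.TateMod X l (SGA7.pt (K := k) Ω))]
    [Module.Finite ℤ_[l] (AbDual.TateMod X l (SGA7.pt (K := k) Ω))]
    {π : X ⟶ X} [IsMonHom π] (hπ : ∀ a : SGA7.pt (K := k) Ω ⟶ X, SGA7.galAct (FrobGal.frobΩ k Ω) a = a ≫ π)
    (φ : Module.End ℚ_[l] (VT Ω l X))
    (hφ : φ ∘ₗ vmap π = vmap π ∘ₗ φ) :
    φ ∈ (repL (Ω := Ω) (l := l) X).range := by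
  haveI := isSemisimpleRing_range (Ω := Ω) (l := l) X
  refine DoubleCentral.mem_range_of_commute _ φ fun c hc => ?_
  haveI : IsAlgClosed Ω := IsAlgClosure.isAlgClosed k
  haveI := H4.Chow.isProper_prod X X
  haveI := H4.Chow.geometricallyIntegral_prod X X
  haveI := H4.Chow.isProper_prod (X ⊗ X) (X ⊗ X)
  haveI := H4.Chow.geometricallyIntegral_prod (X ⊗ X) (X ⊗ X)
  haveI : IsIntegral (X ⊗ X).left := GeometricallyIntegral.isIntegral_of_subsingleton (X ⊗ X).hom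
  haveI : IsIntegral ((X ⊗ X) ⊗ (X ⊗ X)).left :=
    GeometricallyIntegral.isIntegral_of_subsingleton ((X ⊗ X) ⊗ (X ⊗ X)).hom
  obtain ⟨g, hg⟩ := AVIsogeny.exists_dim (A := X ⊗ X)
  obtain ⟨hPfree, hPfin, -⟩ := HomLattice.tate_free_finite Ω (X ⊗ X) l hl hg
  obtain ⟨g', hg'⟩ := AVIsogeny.exists_dim (A := (X ⊗ X) ⊗ (X ⊗ X))
  obtain ⟨hZfree, hZfin, -⟩ := HomLattice.tate_free_finite Ω ((X ⊗ X) ⊗ (X ⊗ X)) l hl hg'
  haveI := hPfree; haveI := hPfin; haveI := hZfree; haveI := hZfin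
  let i₁ : X ⟶ X ⊗ X := lift (𝟙 X) 1
  let i₂ : X ⟶ X ⊗ X := lift 1 (𝟙 X)
  haveI : IsMonHom i₁ := inferInstanceAs (IsMonHom (lift (𝟙 X) (1 : X ⟶ X)))
  haveI : IsMonHom i₂ := inferInstanceAs (IsMonHom (lift (1 : X ⟶ X) (𝟙 X)))
  let P₁ : VT Ω l (X ⊗ X) →ₗ[ℚ_[l]] VT Ω l X := vmap (fst X X)
  let P₂ : VT Ω l (X ⊗ X) →ₗ[ℚ_[l]] VT Ω l X := vmap (snd X X)
  let I₁ : VT Ω l X →ₗ[ℚ_[l]] VT Ω l (X ⊗ X) := vmap i₁
  let I₂ : VT Ω l X →ₗ[ℚ_[l]] VT Ω l (X ⊗ X) := vmap i₂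
  have h11 : ∀ x, P₁ (I₁ x) = x := fun x => by
    rw [← LinearMap.comp_apply, ← vmap_comp, vmap_congr (lift_fst (𝟙 X) (1 : X ⟶ X)), vmap_id, LinearMap.id_apply]
  have h22 : ∀ x, P₂ (I₂ x) = x := fun x => by
    rw [← LinearMap.comp_apply, ← vmap_comp, vmap_congr (lift_snd (1 : X ⟶ X) (𝟙 X)), vmap_id, LinearMap.id_apply]
  have h21 : ∀ x, P₂ (I₁ x) = 0 := fun x => by
    rw [← LinearMap.comp_apply, ← vmap_comp, vmap_congr (lift_snd (𝟙 X) (1 : X ⟶ X)), vmap_one, LinearMap.zero_apply]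
  have h12 : ∀ x, P₁ (I₂ x) = 0 := fun x => by
    rw [← LinearMap.comp_apply, ← vmap_comp, vmap_congr (lift_fst (1 : X ⟶ X) (𝟙 X)), vmap_one, LinearMap.zero_apply]
  have hsum : (fst X X ≫ i₁) * (snd X X ≫ i₂) = 𝟙 (X ⊗ X) := by
    apply hom_ext
    · rw [MonObj.mul_comp, Category.assoc, Category.assoc, lift_fst, lift_fst, Category.comp_id, MonObj.comp_one,
        _root_.mul_one, Category.id_comp]
    · rw [MonObj.mul_comp, Category.assoc, Category.assoc, lift_snd, lift_snd, Category.comp_id, MonObj.comp_one,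
        _root_.one_mul, Category.id_comp]
  haveI : IsMonHom ((fst X X ≫ i₁) * (snd X X ≫ i₂)) := by rw [hsum]; infer_instance
  have hid : ∀ x, I₁ (P₁ x) + I₂ (P₂ x) = x := fun x => by
    rw [← LinearMap.comp_apply, ← LinearMap.comp_apply, ← LinearMap.add_apply, ← vmap_comp, ← vmap_comp, ← vmap_mul,
      vmap_congr hsum, vmap_id, LinearMap.id_apply]
  -- the graph, stable under Frobenius
  obtain ⟨πQ, -, -, -, hπQ, hπQm⟩ := FrobGal.exists_frob_galAct k Ω (X ⊗ X)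
  haveI : IsMonHom πQ := hπQm
  let W : Submodule ℚ_[l] (VT Ω l (X ⊗ X)) := LinearMap.ker (P₂ - φ ∘ₗ P₁)
  have hmemW : ∀ x, x ∈ W ↔ P₂ x = φ (P₁ x) := fun x => by
    rw [LinearMap.mem_ker, LinearMap.sub_apply, sub_eq_zero, LinearMap.comp_apply]
  have hcompπ : ∀ (p : X ⊗ X ⟶ X) [IsMonHom p], ∀ x, vmap p (vmap πQ x) = vmap (l := l) (Ω := Ω) π (vmap p x) := by
    intro p _ x
    rw [← LinearMap.comp_apply, ← LinearMap.comp_apply (f := vmap π), ← vmap_comp, ← vmap_comp]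
    refine LinearMap.congr_fun ?_ x
    rw [vmap, vmap]
    congr 1
    refine LinearMap.ext fun z => AbDual.TateMod.ext fun m => congrArg Additive.ofMul ?_
    show _ ≫ πQ ≫ p = _ ≫ p ≫ π
    rw [← Category.assoc, ← hπQ, ← Category.assoc _ p π, ← hπ]
    exact Category.assoc _ _ _
  have hW : ∀ x ∈ W, vmap πQ x ∈ W := fun x hx => by
    rw [hmemW] at hx ⊢
    rw [hcompπ, hcompπ, hx]
    exact (LinearMap.congr_fun hφ (P₁ x)).symm
  let S : Submodule ℤ_[l] (AbDual.TateMod (X ⊗ X) l (SGA7.pt (K := k) Ω)) :=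
    (W.restrictScalars ℤ_[l]).comap (TensorProduct.mk ℤ_[l] ℚ_[l] (AbDual.TateMod (X ⊗ X) l (SGA7.pt (K := k) Ω)) 1)
  have hSπ : ∀ z ∈ S, AbDual.tateMapₗ (l := l) (T := SGA7.pt (K := k) Ω) πQ z ∈ S := fun z hz => by
    have h := hW _ hz
    exact h
  have hS : ∀ (τ : Ω ≃ₐ[k] Ω), ∀ z ∈ S, ∃ z' ∈ S, ∀ m : ℕ,
      (AbDual.TateMod.component (X ⊗ X) l (SGA7.pt (K := k) Ω) m z').toMul =
        SGA7.galAct τ (AbDual.TateMod.component (X ⊗ X) l (SGA7.pt (K := k) Ω) m z).toMul := by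
    intro τ z hz
    obtain ⟨ρ, hρ⟩ := exists_rho (X := X ⊗ X) (l := l) τ hl
    refine ⟨ρ z, PadicLimit.mem_of_forall_exists_pow S fun N => ?_, hρ z⟩
    obtain ⟨j, hj⟩ := exists_pow_galAct hπQ (pow_pos (Fact.out : l.Prime).pos N)
      (AbDual.TateMod.component (X ⊗ X) l (SGA7.pt (K := k) Ω) N z).toMul (congrArg Additive.toMul (z.torsion N)) τ
    have hmem : ∀ i, ((AbDual.tateMapₗ (l := l) (T := SGA7.pt (K := k) Ω) πQ : _ → _))^[i] z ∈ S := by
      intro i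
      induction i with
      | zero => exact hz
      | succ i ih => rw [Function.iterate_succ_apply']; exact hSπ _ ih
    have hcomp : ∀ i, (AbDual.TateMod.component (X ⊗ X) l (SGA7.pt (K := k) Ω) N
        (((AbDual.tateMapₗ (l := l) (T := SGA7.pt (K := k) Ω) πQ : _ → _))^[i] z)).toMul =
        (fun b : SGA7.pt (K := k) Ω ⟶ X ⊗ X => b ≫ πQ)^[i]
          (AbDual.TateMod.component (X ⊗ X) l (SGA7.pt (K := k) Ω) N z).toMul := by
      intro i
      induction i with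
      | zero => rfl
      | succ i ih => rw [Function.iterate_succ_apply', Function.iterate_succ_apply', ← ih]; rfl
    obtain ⟨y, hy⟩ := GalRange.exists_smul_eq_of_component (n := N)
      (x := ρ z - ((AbDual.tateMapₗ (l := l) (T := SGA7.pt (K := k) Ω) πQ : _ → _))^[j] z) (by
        show AbDual.TateMod.component (X ⊗ X) l (SGA7.pt (K := k) Ω) N (ρ z - _) = 0
        rw [map_sub, sub_eq_zero]
        exact congrArg Additive.ofMul ((hρ z N).trans (hj.trans (hcomp j).symm)))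
    exact ⟨_, hmem j, y, eq_add_of_sub_eq' hy⟩
  obtain ⟨u₀, r, hu₀, h1, h2⟩ := Limit.exists_range hl hl2 (hBd (X ⊗ X) S hS)
  have hu : u₀.baseChange ℚ_[l] ∈ Submodule.span ℚ_[l]
      {ψ | ∃ (f : (X ⊗ X) ⊗ (X ⊗ X) ⟶ X ⊗ X) (_ : IsMonHom f), ψ = (vmap f : VT Ω l _ →ₗ[ℚ_[l]] _)} := by
    refine Submodule.span_mono ?_ (PadicRat.baseChange_mem_span hu₀)
    rintro _ ⟨ψ, ⟨f, hf, rfl⟩, rfl⟩
    exact ⟨f, hf, rfl⟩
  have hr : LinearMap.range (u₀.baseChange ℚ_[l]) = W := by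
    apply le_antisymm
    · rintro _ ⟨x, rfl⟩
      induction x using TensorProduct.induction_on with
      | zero => simp
      | tmul q t =>
        rw [LinearMap.baseChange_tmul, ← _root_.mul_one q, ← smul_eq_mul, ← TensorProduct.smul_tmul']
        exact W.smul_mem q (h1 t)
      | add x y hx hy => rw [map_add]; exact W.add_mem hx hy
    · intro w hw
      obtain ⟨a, t, ha, h⟩ := PadicRat.exists_smul_eq w
      have ht : t ∈ S := by
        show (1 : ℚ_[l]) ⊗ₜ[ℤ_[l]] t ∈ W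
        rw [← h]
        exact W.smul_mem _ hw
      obtain ⟨x, hx⟩ := h2 t ht
      have hc : algebraMap ℤ_[l] ℚ_[l] ((l : ℤ_[l]) ^ r * a) ≠ 0 := by
        rw [ne_eq, map_eq_zero_iff _ (IsFractionRing.injective ℤ_[l] ℚ_[l])]
        exact mul_ne_zero (pow_ne_zero _ (Nat.cast_ne_zero.2 (Fact.out : l.Prime).ne_zero)) ha
      refine ⟨(algebraMap ℤ_[l] ℚ_[l] ((l : ℤ_[l]) ^ r * a))⁻¹ • ((1 : ℚ_[l]) ⊗ₜ[ℤ_[l]] x), ?_⟩
      rw [map_smul, LinearMap.baseChange_tmul, hx, TensorProduct.tmul_smul, ← h,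
        ← algebraMap_smul ℚ_[l] ((l : ℤ_[l]) ^ r) (algebraMap ℤ_[l] ℚ_[l] a • w), smul_smul, smul_smul, mul_assoc,
        ← map_mul, inv_mul_cancel₀ hc, one_smul]
  -- the operator `c` on the products
  let C : Module.End ℚ_[l] (VT Ω l (X ⊗ X)) := I₁ ∘ₗ c ∘ₗ P₁ + I₂ ∘ₗ c ∘ₗ P₂
  have hC₁ : ∀ x, P₁ (C x) = c (P₁ x) := fun x => by
    simp only [C, LinearMap.add_apply, LinearMap.comp_apply, map_add, h11, h12, add_zero]
  have hC₂ : ∀ x, P₂ (C x) = c (P₂ x) := fun x => by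
    simp only [C, LinearMap.add_apply, LinearMap.comp_apply, map_add, h21, h22, zero_add]
  have hE : ∀ (f : X ⟶ X) [IsMonHom f] (x : VT Ω l X), c (vmap f x) = vmap f (c x) := fun f _ x => by
    refine LinearMap.congr_fun (hc (vmap f) ?_) x
    show (vmap f : Module.End ℚ_[l] (VT Ω l X)) ∈ (repL (Ω := Ω) (l := l) X).range.toSubmodule
    rw [range_eq_span]
    exact Submodule.subset_span ⟨f, inferInstance, rfl⟩
  have hCE : ∀ (f : X ⊗ X ⟶ X ⊗ X) [IsMonHom f] (x : VT Ω l (X ⊗ X)), C (vmap f x) = vmap f (C x) := by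
    intro f _ x
    have key : ∀ (p : X ⊗ X ⟶ X) [IsMonHom p], c (vmap p (vmap f x)) = vmap p (vmap f (C x)) := fun p _ => by
      have e : ∀ y, vmap p (vmap f y) = vmap (i₁ ≫ f ≫ p) (P₁ y) + vmap (i₂ ≫ f ≫ p) (P₂ y) := fun y => by
        conv_lhs => rw [← hid y, map_add, map_add]
        rw [vmap_comp i₁ (f ≫ p), vmap_comp i₂ (f ≫ p), vmap_comp f p]
        rfl
      rw [e, e, map_add, hE, hE, hC₁, hC₂]
    refine ((hid _).symm.trans ?_).trans (hid _)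
    rw [hC₁, hC₂]
    exact congrArg₂ (· + ·) (congrArg I₁ (key (fst X X))) (congrArg I₂ (key (snd X X)))
  let j₁ : X ⊗ X ⟶ (X ⊗ X) ⊗ (X ⊗ X) := lift (𝟙 _) 1
  let j₂ : X ⊗ X ⟶ (X ⊗ X) ⊗ (X ⊗ X) := lift 1 (𝟙 _)
  haveI : IsMonHom j₁ := inferInstanceAs (IsMonHom (lift (𝟙 (X ⊗ X)) (1 : X ⊗ X ⟶ X ⊗ X)))
  haveI : IsMonHom j₂ := inferInstanceAs (IsMonHom (lift (1 : X ⊗ X ⟶ X ⊗ X) (𝟙 (X ⊗ X))))
  have hsum' : (fst (X ⊗ X) (X ⊗ X) ≫ j₁) * (snd (X ⊗ X) (X ⊗ X) ≫ j₂) = 𝟙 ((X ⊗ X) ⊗ (X ⊗ X)) := by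
    apply hom_ext
    · rw [MonObj.mul_comp, Category.assoc, Category.assoc, lift_fst, lift_fst, Category.comp_id, MonObj.comp_one,
        _root_.mul_one, Category.id_comp]
    · rw [MonObj.mul_comp, Category.assoc, Category.assoc, lift_snd, lift_snd, Category.comp_id, MonObj.comp_one,
        _root_.one_mul, Category.id_comp]
  haveI : IsMonHom ((fst (X ⊗ X) (X ⊗ X) ≫ j₁) * (snd (X ⊗ X) (X ⊗ X) ≫ j₂)) := by rw [hsum']; infer_instance
  have hid' : ∀ x, vmap (Ω := Ω) (l := l) j₁ (vmap (fst (X ⊗ X) (X ⊗ X)) x) +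
      vmap j₂ (vmap (snd (X ⊗ X) (X ⊗ X)) x) = x := fun x => by
    rw [← LinearMap.comp_apply, ← LinearMap.comp_apply, ← LinearMap.add_apply, ← vmap_comp, ← vmap_comp, ← vmap_mul,
      vmap_congr hsum', vmap_id, LinearMap.id_apply]
  have hCu : ∀ x, ∃ y, C (u₀.baseChange ℚ_[l] x) = u₀.baseChange ℚ_[l] y := by
    intro x
    refine ⟨vmap j₁ (C (vmap (fst (X ⊗ X) (X ⊗ X)) x)) + vmap j₂ (C (vmap (snd (X ⊗ X) (X ⊗ X)) x)), ?_⟩
    clear hr
    generalize u₀.baseChange ℚ_[l] = Φ at hu ⊢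
    induction hu using Submodule.span_induction with
    | mem v hv =>
      obtain ⟨f, hf, rfl⟩ := hv
      have e : ∀ y, vmap (Ω := Ω) (l := l) f y = vmap (j₁ ≫ f) (vmap (fst (X ⊗ X) (X ⊗ X)) y) +
          vmap (j₂ ≫ f) (vmap (snd (X ⊗ X) (X ⊗ X)) y) := fun y => by
        conv_lhs => rw [← hid' y, map_add]
        rw [vmap_comp j₁ f, vmap_comp j₂ f]
        rfl
      rw [e x, map_add, map_add, hCE, hCE, vmap_comp j₁ f, vmap_comp j₂ f]
      rfl
    | zero => simp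
    | add v w _ _ hv hw => simp only [LinearMap.add_apply, map_add] at *; rw [hv, hw]; abel
    | smul a v _ hv => simp only [LinearMap.smul_apply, map_smul, map_add] at *; rw [hv, smul_add]
  refine LinearMap.ext fun v => ?_
  obtain ⟨y, hy⟩ : I₁ v + I₂ (φ v) ∈ LinearMap.range (u₀.baseChange ℚ_[l]) := by
    rw [hr, hmemW, map_add, map_add, h21, h22, h11, h12, zero_add, add_zero]
  have hmem : C (I₁ v + I₂ (φ v)) ∈ W := by
    obtain ⟨y', hy'⟩ := hCu y
    rw [← hy, hy', ← hr]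
    exact LinearMap.mem_range_self _ y'
  simp only [hmemW, hC₁, hC₂, map_add, h21, h22, h11, h12, map_zero, zero_add, add_zero] at hmem
  exact hmem

end Step

/-- The endomorphisms span a space of dimension their rank. -/
theorem finrank_range (hl : (l : k) ≠ 0) (X : Over (Spec (CommRingCat.of k))) [GrpObj X] [IsCommMonObj X]
    [IsProper X.hom] [GeometricallyIntegral X.hom]
    [Module.Free ℤ_[l] (AbDual.TateMod X l (SGA7.pt (K := k) Ω))]
    [Module.Finite ℤ_[l] (AbDual.TateMod X l (SGA7.pt (K := k) Ω))] :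
    Module.finrank ℚ_[l] (repL (Ω := Ω) (l := l) X).range.toSubmodule = Module.finrank ℤ (EndAV.Hom X X) := by
  haveI : IsAlgClosed Ω := IsAlgClosure.isAlgClosed k
  haveI := HomLattice.moduleFree Ω X X l hl
  haveI := HomLattice.moduleFinite Ω X X l hl
  let b := Module.finBasis ℤ (EndAV.Hom X X)
  let T := AbDual.TateMod X l (SGA7.pt (K := k) Ω)
  have hli := HomLattice.linearIndependent_tateMap Ω X X l hl b b.linearIndependent
  let bc : Module.End ℤ_[l] T →ₗ[ℤ_[l]] Module.End ℚ_[l] (ℚ_[l] ⊗[ℤ_[l]] T) := LinearMap.baseChangeHom ℤ_[l] ℚ_[l] T T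
  have hbc : Function.Injective bc := fun f g h => LinearMap.ext fun t =>
    one_tmul_injective (T) (LinearMap.congr_fun h (1 ⊗ₜ[ℤ_[l]] t))
  have hli' : LinearIndependent ℚ_[l] fun i => bc (EndAV.Hom.tateMap (A := X) (B := X) l (SGA7.pt (K := k) Ω) (b i)) :=
    (LinearIndependent.iff_fractionRing ℤ_[l] ℚ_[l]).1 (hli.map' bc (LinearMap.ker_eq_bot.2 hbc))
  have e : (repL (Ω := Ω) (l := l) X).range.toSubmodule =
      Submodule.span ℚ_[l] (Set.range fun i => bc (EndAV.Hom.tateMap (A := X) (B := X) l (SGA7.pt (K := k) Ω) (b i))) := by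
    rw [range_eq_span]
    refine le_antisymm (Submodule.span_le.2 ?_) (Submodule.span_le.2 ?_)
    · rintro _ ⟨f, hf, rfl⟩
      have hb : EndAV.Hom.of f ∈ Submodule.span ℤ (Set.range b) := by rw [b.span_eq]; trivial
      obtain ⟨a, ha⟩ := (Submodule.mem_span_range_iff_exists_fun ℤ).1 hb
      have h : bc (EndAV.Hom.tateMap l (SGA7.pt (K := k) Ω) (EndAV.Hom.of f)) ∈ Submodule.span ℚ_[l]
          (Set.range fun i => bc (EndAV.Hom.tateMap (A := X) (B := X) l (SGA7.pt (K := k) Ω) (b i))) := by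
        rw [← ha, map_sum, map_sum]
        refine Submodule.sum_mem _ fun i _ => ?_
        rw [map_zsmul, map_zsmul, ← Int.cast_smul_eq_zsmul ℚ_[l]]
        exact Submodule.smul_mem _ _ (Submodule.subset_span ⟨i, rfl⟩)
      exact h
    · rintro _ ⟨i, rfl⟩
      exact Submodule.subset_span ⟨(b i).toHom, inferInstance, rfl⟩
  rw [e, finrank_span_eq_card hli', Fintype.card_fin]

/-- At every prime the commutant of Frobenius consists of endomorphisms. -/
theorem mem_range_of_commute' {l₀ : ℕ} [Fact l₀.Prime] (hl₀ : (l₀ : k) ≠ 0) (hl₀2 : l₀ ≠ 2) (hBd : AllBd k Ω l₀)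
    (hl : (l : k) ≠ 0) (X : Over (Spec (CommRingCat.of k))) [GrpObj X] [IsCommMonObj X]
    [IsProper X.hom] [GeometricallyIntegral X.hom]
    [Module.Free ℤ_[l] (AbDual.TateMod X l (SGA7.pt (K := k) Ω))]
    [Module.Finite ℤ_[l] (AbDual.TateMod X l (SGA7.pt (K := k) Ω))]
    (πX : X ⟶ X) [IsMonHom πX] (hb : πX.left.base = 𝟙 _) (hle : ∀ U : X.left.Opens, U ≤ πX.left ⁻¹ᵁ U)
    (happ : ∀ (U : X.left.Opens) (s : Γ(X.left, U)), (πX.left.appLE U U (hle U)).hom s = s ^ Nat.card k)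
    (hπ : ∀ a : SGA7.pt (K := k) Ω ⟶ X, SGA7.galAct (FrobGal.frobΩ k Ω) a = a ≫ πX)
    (φ : Module.End ℚ_[l] (VT Ω l X)) (hφ : φ ∘ₗ vmap πX = vmap πX ∘ₗ φ) :
    φ ∈ (repL (Ω := Ω) (l := l) X).range := by
  haveI : IsAlgClosed Ω := IsAlgClosure.isAlgClosed k
  haveI : IsIntegral X.left := GeometricallyIntegral.isIntegral_of_subsingleton X.hom
  obtain ⟨g, hg⟩ := AVIsogeny.exists_dim (A := X)
  obtain ⟨hf₀, hfin₀, -⟩ := HomLattice.tate_free_finite Ω X l₀ hl₀ hg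
  haveI : Module.Free ℤ_[l₀] (AbDual.TateMod X l₀ (SGA7.pt (K := k) Ω)) := hf₀
  haveI : Module.Finite ℤ_[l₀] (AbDual.TateMod X l₀ (SGA7.pt (K := k) Ω)) := hfin₀
  let D := fun (p : ℕ) [Fact p.Prime] => LinearMap.ker (LinearMap.lcomp ℚ_[p] _ (vmap (l := p) (Ω := Ω) πX) -
      LinearMap.llcomp ℚ_[p] _ _ _ (vmap (l := p) (Ω := Ω) πX) :
        Module.End ℚ_[p] (VT Ω p X) →ₗ[ℚ_[p]] Module.End ℚ_[p] (VT Ω p X))
  have hD : ∀ (p : ℕ) [Fact p.Prime] (ψ : Module.End ℚ_[p] (VT Ω p X)),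
      ψ ∈ D p ↔ ψ ∘ₗ vmap πX = vmap πX ∘ₗ ψ := fun p _ ψ => by
    rw [LinearMap.mem_ker, LinearMap.sub_apply, sub_eq_zero, LinearMap.lcomp_apply', LinearMap.llcomp_apply']
  have hle' : ∀ (p : ℕ) [Fact p.Prime], (repL (Ω := Ω) (l := p) X).range.toSubmodule ≤ D p := fun p _ => by
    rw [range_eq_span, Submodule.span_le]
    rintro _ ⟨f, hf, rfl⟩
    rw [SetLike.mem_coe, hD, vmap, ← LinearMap.baseChange_comp, ← LinearMap.baseChange_comp]
    congr 1
    refine LinearMap.ext fun z => AbDual.TateMod.ext fun m => congrArg Additive.ofMul ?_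
    show (_ ≫ πX) ≫ f = (_ ≫ f) ≫ πX
    rw [← hπ, ← hπ]
    exact Category.assoc _ _ _
  have heq : (repL (Ω := Ω) (l := l₀) X).range.toSubmodule = D l₀ :=
    le_antisymm (hle' l₀) fun ψ hψ => mem_range_of_commute hl₀ hl₀2 hBd hπ ψ ((hD l₀ ψ).1 hψ)
  have hdim : Module.finrank ℚ_[l] (D l) = Module.finrank ℚ_[l] (repL (Ω := Ω) (l := l) X).range.toSubmodule := by
    rw [finrank_range (Ω := Ω) hl X, ← finrank_range (Ω := Ω) (l := l₀) hl₀ X, heq]
    exact S14944.result k Ω X πX hb hle happ l l₀ hl hl₀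
  have h := Submodule.eq_of_le_of_finrank_eq (hle' l) hdim.symm
  show φ ∈ (repL (Ω := Ω) (l := l) X).range.toSubmodule
  rw [h, hD]
  exact hφ

/-- **The Tate theorem**, from boundedness at an auxiliary prime. -/
theorem mem_span {l₀ : ℕ} [Fact l₀.Prime] (hl₀ : (l₀ : k) ≠ 0) (hl₀2 : l₀ ≠ 2) (hBd : AllBd k Ω l₀)
    (hl : (l : k) ≠ 0) (A B : Over (Spec (CommRingCat.of k)))
    [GrpObj A] [IsCommMonObj A] [IsProper A.hom] [GeometricallyIntegral A.hom]
    [GrpObj B] [IsCommMonObj B] [IsProper B.hom] [GeometricallyIntegral B.hom]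
    (u : AbDual.TateMod A l (SGA7.pt Ω) →ₗ[ℤ_[l]] AbDual.TateMod B l (SGA7.pt Ω))
    (hu : ∀ (z : AbDual.TateMod A l (SGA7.pt Ω)) (m : ℕ),
      ∃ z', (∀ i, (AbDual.TateMod.component A l (SGA7.pt Ω) i z').toMul =
          SGA7.galAct (FrobGal.frobΩ k Ω) (AbDual.TateMod.component A l (SGA7.pt Ω) i z).toMul) ∧
        (AbDual.TateMod.component B l (SGA7.pt Ω) m (u z')).toMul =
          SGA7.galAct (FrobGal.frobΩ k Ω) (AbDual.TateMod.component B l (SGA7.pt Ω) m (u z)).toMul) :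
    u ∈ Submodule.span ℤ_[l] (Set.range (EndAV.Hom.tateMap (A := A) (B := B) l (SGA7.pt Ω))) := by
  haveI : IsAlgClosed Ω := IsAlgClosure.isAlgClosed k
  haveI := H4.Chow.isProper_prod A B
  haveI := H4.Chow.geometricallyIntegral_prod A B
  haveI : IsIntegral (A ⊗ B).left := GeometricallyIntegral.isIntegral_of_subsingleton (A ⊗ B).hom
  haveI : IsIntegral B.left := GeometricallyIntegral.isIntegral_of_subsingleton B.hom
  haveI : IsIntegral A.left := GeometricallyIntegral.isIntegral_of_subsingleton A.hom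
  obtain ⟨g, hg⟩ := AVIsogeny.exists_dim (A := A ⊗ B)
  obtain ⟨hfree, hfin, -⟩ := HomLattice.tate_free_finite Ω (A ⊗ B) l hl hg
  haveI := hfree; haveI := hfin
  obtain ⟨gA, hgA⟩ := AVIsogeny.exists_dim (A := A)
  obtain ⟨hfA, hfinA, -⟩ := HomLattice.tate_free_finite Ω A l hl hgA
  haveI := hfA; haveI := hfinA
  obtain ⟨gB, hgB⟩ := AVIsogeny.exists_dim (A := B)
  obtain ⟨hfB, hfinB, -⟩ := HomLattice.tate_free_finite Ω B l hl hgB
  haveI := hfB; haveI := hfinB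
  obtain ⟨π, hb, hle, happ, hπ, hπm⟩ := FrobGal.exists_frob_galAct k Ω (A ⊗ B)
  haveI : IsMonHom π := hπm
  let i₁ : A ⟶ A ⊗ B := lift (𝟙 A) 1
  let i₂ : B ⟶ A ⊗ B := lift 1 (𝟙 B)
  haveI : IsMonHom i₁ := inferInstanceAs (IsMonHom (lift (𝟙 A) (1 : A ⟶ B)))
  haveI : IsMonHom i₂ := inferInstanceAs (IsMonHom (lift (1 : B ⟶ A) (𝟙 B)))
  let T₁ := AbDual.tateMapₗ (l := l) (T := SGA7.pt (K := k) Ω) (fst A B)
  let U₂ := AbDual.tateMapₗ (l := l) (T := SGA7.pt (K := k) Ω) i₂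
  let ψ : Module.End ℤ_[l] (AbDual.TateMod (A ⊗ B) l (SGA7.pt (K := k) Ω)) := U₂ ∘ₗ u ∘ₗ T₁
  have hψ : ψ ∘ₗ AbDual.tateMapₗ (l := l) (T := SGA7.pt (K := k) Ω) π =
      AbDual.tateMapₗ (l := l) (T := SGA7.pt (K := k) Ω) π ∘ₗ ψ := by
    refine LinearMap.ext fun x => AbDual.TateMod.ext fun m => congrArg Additive.ofMul ?_
    obtain ⟨z', hz', hm⟩ := hu (T₁ x) m
    have e : T₁ (AbDual.tateMapₗ (l := l) (T := SGA7.pt (K := k) Ω) π x) = z' :=
      AbDual.TateMod.ext fun i => congrArg Additive.ofMul (by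
        refine Eq.trans ?_ (hz' i).symm
        show (_ ≫ π) ≫ fst A B = SGA7.galAct (FrobGal.frobΩ k Ω) (_ ≫ fst A B)
        rw [← hπ]
        exact Category.assoc _ _ _)
    show (AbDual.TateMod.component B l (SGA7.pt Ω) m (u (T₁ (AbDual.tateMapₗ π x)))).toMul ≫ i₂ =
      ((AbDual.TateMod.component B l (SGA7.pt Ω) m (u (T₁ x))).toMul ≫ i₂) ≫ π
    rw [e, hm, ← hπ]
    exact Category.assoc _ _ _
  have hmem := mem_range_of_commute' hl₀ hl₀2 hBd hl (A ⊗ B) π hb hle happ hπ (ψ.baseChange ℚ_[l]) (by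
    rw [vmap, ← LinearMap.baseChange_comp, hψ, LinearMap.baseChange_comp])
  replace hmem : ψ.baseChange ℚ_[l] ∈ (repL (Ω := Ω) (l := l) (A ⊗ B)).range.toSubmodule := hmem
  rw [range_eq_span] at hmem
  have hq : u.baseChange ℚ_[l] ∈ Submodule.span ℚ_[l]
      (Set.range fun f : EndAV.Hom A B => (vmap f.toHom : VT Ω l A →ₗ[ℚ_[l]] VT Ω l B)) := by
    have e : u.baseChange ℚ_[l] = (vmap (snd A B) : VT Ω l (A ⊗ B) →ₗ[ℚ_[l]] _) ∘ₗ ψ.baseChange ℚ_[l] ∘ₗ vmap i₁ := by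
      rw [vmap, vmap, ← LinearMap.baseChange_comp, ← LinearMap.baseChange_comp]
      congr 1
      refine LinearMap.ext fun z => AbDual.TateMod.ext fun m => congrArg Additive.ofMul ?_
      have e1 : T₁ (AbDual.tateMapₗ (l := l) (T := SGA7.pt (K := k) Ω) i₁ z) = z :=
        AbDual.TateMod.ext fun i => congrArg Additive.ofMul (by
          show (_ ≫ i₁) ≫ fst A B = _
          rw [Category.assoc, lift_fst, Category.comp_id]
          rfl)
      show _ = ((AbDual.TateMod.component B l (SGA7.pt Ω) m (u (T₁ (AbDual.tateMapₗ i₁ z)))).toMul ≫ i₂) ≫ snd A B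
      rw [e1, Category.assoc, lift_snd, Category.comp_id]
      rfl
    rw [e]
    clear e
    generalize ψ.baseChange ℚ_[l] = Φ at hmem ⊢
    induction hmem using Submodule.span_induction with
    | mem x hx =>
      obtain ⟨f, hf, rfl⟩ := hx
      refine Submodule.subset_span ⟨EndAV.Hom.of (i₁ ≫ f ≫ snd A B), ?_⟩
      show vmap (i₁ ≫ f ≫ snd A B) = _
      rw [vmap_comp i₁ (f ≫ snd A B), vmap_comp f (snd A B)]
      rfl
    | zero => simp
    | add x y _ _ hx hy => rw [LinearMap.add_comp, LinearMap.comp_add]; exact Submodule.add_mem _ hx hy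
    | smul a x _ hx => rw [LinearMap.smul_comp, LinearMap.comp_smul]; exact Submodule.smul_mem _ _ hx
  -- clear denominators
  let bc : (AbDual.TateMod A l (SGA7.pt (K := k) Ω) →ₗ[ℤ_[l]] AbDual.TateMod B l (SGA7.pt (K := k) Ω)) →ₗ[ℤ_[l]]
      (VT Ω l A →ₗ[ℚ_[l]] VT Ω l B) := LinearMap.baseChangeHom ℤ_[l] ℚ_[l] _ _
  have hbc : Function.Injective bc := fun f g h => LinearMap.ext fun t =>
    one_tmul_injective (AbDual.TateMod B l (SGA7.pt (K := k) Ω)) (LinearMap.congr_fun h (1 ⊗ₜ[ℤ_[l]] t))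
  have hclear : ∀ z ∈ Submodule.span ℚ_[l]
      (Set.range fun f : EndAV.Hom A B => (vmap f.toHom : VT Ω l A →ₗ[ℚ_[l]] VT Ω l B)),
      ∃ (a : ℤ_[l]) (v : _), a ≠ 0 ∧
        v ∈ Submodule.span ℤ_[l] (Set.range (EndAV.Hom.tateMap (A := A) (B := B) l (SGA7.pt Ω))) ∧
        algebraMap ℤ_[l] ℚ_[l] a • z = bc v := by
    intro z hz
    induction hz using Submodule.span_induction with
    | mem x hx =>
      obtain ⟨f, rfl⟩ := hx
      exact ⟨1, _, one_ne_zero, Submodule.subset_span ⟨f, rfl⟩, by rw [map_one, one_smul]; rfl⟩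
    | zero => exact ⟨1, 0, one_ne_zero, Submodule.zero_mem _, by simp⟩
    | add x y _ _ hx hy =>
      obtain ⟨a, v, ha, hv, h⟩ := hx
      obtain ⟨b, w, hb, hw, h'⟩ := hy
      refine ⟨a * b, b • v + a • w, mul_ne_zero ha hb,
        Submodule.add_mem _ (Submodule.smul_mem _ _ hv) (Submodule.smul_mem _ _ hw), ?_⟩
      rw [map_add, map_smul, map_smul, ← h, ← h', ← algebraMap_smul ℚ_[l] b, ← algebraMap_smul ℚ_[l] a,
        smul_smul, smul_smul, smul_add, map_mul, mul_comm (algebraMap ℤ_[l] ℚ_[l] a)]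
    | smul q x _ hx =>
      obtain ⟨a, v, ha, hv, h⟩ := hx
      obtain ⟨s, t, ht, rfl⟩ := IsFractionRing.div_surjective ℤ_[l] q
      refine ⟨t * a, s • v, mul_ne_zero (nonZeroDivisors.ne_zero ht) ha, Submodule.smul_mem _ _ hv, ?_⟩
      rw [map_smul, ← h, ← algebraMap_smul ℚ_[l] s, smul_smul, smul_smul, map_mul]
      congr 1
      have hne : algebraMap ℤ_[l] ℚ_[l] t ≠ 0 := IsFractionRing.to_map_ne_zero_of_mem_nonZeroDivisors ht
      field_simp
  obtain ⟨a, v, ha, hv, hav⟩ := hclear _ hq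
  have hau : a • u = v := hbc (by
    rw [map_smul, ← algebraMap_smul ℚ_[l] a]
    exact hav)
  rw [PadicInt.unitCoeff_spec ha] at hau
  refine S16588.result k Ω l hl A B u a.valuation ?_
  have h := Submodule.smul_mem _ (↑(PadicInt.unitCoeff ha)⁻¹ : ℤ_[l]) (hau ▸ hv)
  rwa [smul_smul, ← mul_assoc, Units.inv_mul, _root_.one_mul] at h

end Groth.Agent.H63.Tate.Reduce
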