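import Groth.Agent.Lib.ProjKoszul.Iterate
import Groth.Agent.Lib.ProjKoszul.Chase
import Groth.Agent.Lib.ProjKoszul.Surj
import Groth.Agent.Lib.ProjMor.Sec
import Groth.Agent.Lib.Modules.Local
import Groth.Agent.Lib.TensorMod.Colimit

/-!
# The Koszul complex of generating sections of an invertible module

* `exists_sum`: sections of high tensor powers are sums of multiples of the generating sections
-/

set_option autoImplicit false
set_option linter.style.haveILetI false

universe u

open CategoryTheory CategoryTheory.Limits AlgebraicGeometry TopologicalSpace Opposite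

noncomputable section

namespace Groth.Agent.H63.Tate.SecKoszul

open Groth.Agent.Lib Groth.Agent.Lib.ProjKoszul.Iterate Groth.Agent.Lib.ProjKoszul Groth.Agent.Lib.Curves.LES
  Groth.Agent.Lib.Modules.TensorSec TensorMod.Basic TensorMod.Pullback ProjMor.Sec

variable {R : Type u} [CommRing R] {X : Scheme.{u}} [X.Over (Spec (CommRingCat.of R))] {L : X.Modules}

/-- Tensoring is additive. -/
local instance (N : X.Modules) : (tensorBy N).Additive := by
  have : PreservesColimitsOfShape (CategoryTheory.Discrete PEmpty.{1}) (tensorBy N) :=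
    (preservesSmallestColimits_of_preservesColimits (tensorBy N)).preservesColimitsOfShape
  have : (tensorBy N).PreservesZeroMorphisms :=
    Functor.preservesZeroMorphisms_of_preserves_initial_object
  have : PreservesColimitsOfShape (CategoryTheory.Discrete WalkingPair) (tensorBy N) :=
    (preservesSmallestColimits_of_preservesColimits (tensorBy N)).preservesColimitsOfShape
  have := preservesBinaryBiproducts_of_preservesBinaryCoproducts (tensorBy N)
  exact Functor.additive_of_preservesBinaryBiproducts _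

/-- Multiplication by a section. -/
def mulS (s : Γ(L, ⊤)) : 𝟭 X.Modules ⟶ tensorBy L where
  app M := (rightUnit M).inv ≫ tmap (𝟙 M) (Modules.Free.unitHom L s)
  naturality M N f := by
    change f ≫ (rightUnit N).inv ≫ tmap (𝟙 N) (Modules.Free.unitHom L s) =
      ((rightUnit M).inv ≫ tmap (𝟙 M) (Modules.Free.unitHom L s)) ≫ tmap f (𝟙 _)
    have h : f ≫ (rightUnit N).inv = (rightUnit M).inv ≫ tmap f (𝟙 _) := by
      rw [Iso.eq_inv_comp, ← Category.assoc, Iso.comp_inv_eq]
      exact (rightUnit_natural f).symm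
    rw [reassoc_of% h, Category.assoc, ← tmap_comp, ← tmap_comp]
    simp only [Category.id_comp, Category.comp_id]

theorem mulS_app (s : Γ(L, ⊤)) (M : X.Modules) (y : Γ(M, ⊤)) : ((mulS s).app M).app ⊤ y = tens y s := by
  change ((rightUnit M).inv ≫ tmap (𝟙 M) (Modules.Free.unitHom L s)).app ⊤ y = _
  rw [Scheme.Modules.Hom.comp_app, CategoryTheory.comp_apply, Surj.rightUnit_inv_app, tmap_tens]
  exact congrArg (tens y) (Modules.Free.unitHom_app_one L s)

theorem isIso_pb_mulS (s : Γ(L, ⊤)) (M : X.Modules) : IsIso ((pb (locus s).ι).map ((mulS s).app M)) := by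
  let j := (locus s).ι
  haveI : IsIso ((pb j).map (Modules.Free.unitHom L s)) := by
    refine (NatIso.isIso_map_iff (Scheme.Modules.restrictFunctorIsoPullback j) _).1 ?_
    refine (Ample.GenLocus.isIso_restrict_iff (Modules.Free.unitHom L s) (locus s)).2 ?_
    rw [sv_unitHom]
    exact isGen_locus s
  have hiso : IsIso (tmap (𝟙 ((pb j).obj M)) ((pb j).map (Modules.Free.unitHom L s))) :=
    (tensorIso (Iso.refl _) (asIso ((pb j).map (Modules.Free.unitHom L s)))).isIso_hom
  have hnat : (pullbackTensorIso j M (Coh.structureModule _)).hom ≫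
      tmap (𝟙 ((pb j).obj M)) ((pb j).map (Modules.Free.unitHom L s)) =
      (pb j).map (tmap (𝟙 M) (Modules.Free.unitHom L s)) ≫ (pullbackTensorIso j M L).hom := by
    rw [← CategoryTheory.Functor.map_id]
    exact (delta_natural j (𝟙 M) (Modules.Free.unitHom L s)).symm
  have : IsIso ((pb j).map (tmap (𝟙 M) (Modules.Free.unitHom L s))) := by
    have e := congrArg (· ≫ (pullbackTensorIso j M L).inv) hnat
    simp only [Category.assoc, Iso.hom_inv_id, Category.comp_id] at e
    rw [← e]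
    infer_instance
  change IsIso ((pb j).map ((rightUnit M).inv ≫ tmap (𝟙 M) (Modules.Free.unitHom L s)))
  rw [Functor.map_comp]
  infer_instance

variable {m : ℕ} (s : Fin (m + 1) → Γ(L, ⊤))

/-- The sections indexed cyclically. -/
def μ (t : ℕ) : 𝟭 X.Modules ⟶ tensorBy L := mulS (s (Fin.ofNat (m + 1) t))

theorem exactAt_kos (hcov : ∀ x, ∃ i, x ∈ locus (s i)) (M : X.Modules) (i : ℤ) :
    ((kos (tensorBy L) (μ s) (m + 1)).obj M).ExactAt i := by
  refine Modules.Local.exact_of_restrict (fun t => locus (s t)) (eq_top_iff.2 fun x _ => Opens.mem_iSup.2 (hcov x)) _ fun t => ?_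
  exact acyclic_map_kos (tensorBy L) (μ s) (Scheme.Modules.restrictFunctor (locus (s t)).ι) M t.val (fun N => by
    have h := isIso_pb_mulS (s t) N
    have ht : μ s t.val = mulS (s t) := congrArg (fun a => mulS (s a)) (Fin.ofNat_val_eq_self t)
    rw [ht]
    exact (NatIso.isIso_map_iff (Scheme.Modules.restrictFunctorIsoPullback (locus (s t)).ι) _).2 h)
    (m + 1) t.isLt i

/-- Powers of twisting. -/
theorem pow_iso : ∀ (l a : ℕ),
    Nonempty ((pow (tensorBy L) l).obj (CohB1.tensorPow L a) ≅ CohB1.tensorPow L (a + l))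
  | 0, a => ⟨Iso.refl _⟩
  | l + 1, a => by
    obtain ⟨e⟩ := pow_iso l (a + 1)
    exact ⟨e ≪≫ eqToIso (by rw [Nat.add_right_comm, Nat.add_assoc])⟩

include R in
/-- Sections of `L^(a + m + 1)` are sums of multiples of the sections. -/
theorem exists_sum (hL : PicF.IsInvertible L) (hcov : ∀ x, ∃ i, x ∈ locus (s i)) (a : ℕ)
    (hv : ∀ p : ℕ, 1 ≤ p → p ≤ m → Subsingleton (Coh.HH X (CohB1.tensorPow L (a + (m - p))) p))
    (z : Γ(CohB1.tensorPow L (a + m + 1), ⊤)) :
    ∃ y : Fin (m + 1) → Γ(CohB1.tensorPow L (a + m), ⊤),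
      z = ∑ t, SecTwist.tmul (CohB1.tensorPow L (a + m)) L ⊤ (y t) (s t) := by
  let M := CohB1.tensorPow L a
  let K := (kos (tensorBy L) (μ s) (m + 1)).obj M
  let Z := ((kos (tensorBy L) (μ s) m).obj M).X 0
  obtain ⟨em⟩ := nonempty_kos_X_iso (tensorBy L) (μ s) M m 0 m 0 (by simp)
  obtain ⟨ep⟩ := pow_iso (L := L) m a
  have : Unique (Fin (Nat.choose m m)) := by rw [Nat.choose_self]; infer_instance
  let e : Z ≅ CohB1.tensorPow L (a + m) :=
    em ≪≫ coproductUniqueIso _ ≪≫ eqToIso (by rw [zero_add]) ≪≫ ep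
  let top : (tensorBy L).obj Z ≅ K.X 0 := topIso (tensorBy L) (μ s) M m
  let e₁ : (tensorBy L).obj Z ≅ CohB1.tensorPow L (a + m + 1) := (tensorBy L).mapIso e
  obtain ⟨p, hp⟩ := exists_decomp (tensorBy L) (μ s) (fun t Y => Surj.mul_comm_aux hL _ Y) M m
  have hzero : ∀ j : ℤ, j < -((m + 1 : ℕ) : ℤ) ∨ 0 < j → IsZero (K.X j) := fun j h =>
    isZero_X_of_not_mem (tensorBy L) (μ s) M (m + 1) j h
  have hterm : ∀ (j : ℤ) (q : ℕ), -((m + 1 : ℕ) : ℤ) ≤ j → j < -1 → (q : ℤ) = -1 - j →
      Subsingleton (Coh.HH X (K.X j) q) := fun j q hj hj' hq => by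
    rw [← Chase.isZero_cohFun_iff R]
    refine isZero_kos_X (tensorBy L) (μ s) (Chase.cohFun R q) M (m + 1) 0 j fun _ _ l hl => ?_
    rw [Chase.isZero_cohFun_iff R]
    obtain ⟨el⟩ := pow_iso (L := L) l a
    refine Chase.subsingleton_of_iso R el.symm ?_
    push_cast at hl
    rw [show l = m - q by omega]
    exact hv q (by omega) (by omega)
  have hs : Function.Surjective (mapK R (K.d (-1) 0) 0) :=
    Chase.surjective_top R K (exactAt_kos s hcov M) (-((m + 1 : ℕ) : ℤ))
      (fun j hj => hzero j (Or.inl hj)) (hzero _ (Or.inr (by norm_num))) hterm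
  let z' := top.hom.app ⊤ (e₁.inv.app ⊤ z)
  obtain ⟨w, hw⟩ := hs ((Curves.GlobalSections.h0Equiv _).symm z')
  let w' := Curves.GlobalSections.h0Equiv _ w
  have hd : (K.d (-1) 0).app ⊤ w' = z' :=
    (Regularity.h0Equiv_mapK (R := R) _ w).symm.trans ((congrArg _ hw).trans (AddEquiv.apply_symm_apply _ z'))
  refine ⟨fun t => e.hom.app ⊤ ((p t).app ⊤ w'), ?_⟩
  have hcong : (K.d (-1) 0 ≫ top.inv ≫ e₁.hom) =
      ∑ t : Fin (m + 1), p t ≫ e.hom ≫ (μ s t.val).app (CohB1.tensorPow L (a + m)) := by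
    refine (congrArg (· ≫ top.inv ≫ e₁.hom) hp).trans ?_
    rw [Preadditive.sum_comp]
    refine Finset.sum_congr rfl fun t _ => ?_
    simp only [top, Category.assoc, Iso.hom_inv_id_assoc]
    exact congrArg (p t ≫ ·) ((μ s t.val).naturality e.hom).symm
  have hz : (K.d (-1) 0 ≫ top.inv ≫ e₁.hom).app ⊤ w' = z := by
    change e₁.hom.app ⊤ (top.inv.app ⊤ ((K.d (-1) 0).app ⊤ w')) = z
    rw [hd]
    change (top.hom ≫ top.inv ≫ e₁.hom).app ⊤ (e₁.inv.app ⊤ z) = z
    rw [Iso.hom_inv_id_assoc]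
    change (e₁.inv ≫ e₁.hom).app ⊤ z = z
    rw [e₁.inv_hom_id]
    rfl
  rw [hcong] at hz
  refine hz.symm.trans ((map_sum (AddMonoidHom.mk'
    (fun φ : (K.X (-1) ⟶ (tensorBy L).obj (CohB1.tensorPow L (a + m))) => φ.app ⊤ w') fun _ _ => rfl) _ _).trans
    (Finset.sum_congr rfl fun t _ => ?_))
  change ((μ s t.val).app _).app ⊤ (e.hom.app ⊤ ((p t).app ⊤ w')) = _
  rw [μ, mulS_app, Fin.ofNat_val_eq_self]
  rfl

end Groth.Agent.H63.Tate.SecKoszul
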